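import Cfsg.Agent.Cit.Nil.CV1.LemT.Delta

/-!
# (6b)(CV), rank one, LEMMA T: counting

`(z, s)` an M/M pair.  `ov Om z` = the members over `z`.  `WF U s z F` = `⟨z dl s v_K | K ∈ F⟩`.
`TW.card_le` : `2 ^ |F| ≤ |ov Om s|` for `F ⊆ ov Om z` with `F ∩ F^s = ∅`; `TW.ncard_le_four`.
`TW.two_of_four` : `|ov Om s| ≤ 4` implies `ov Om z = {K, K^s}`.
-/

set_option autoImplicit false
set_option linter.style.haveILetI false
set_option linter.unusedSectionVars false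

namespace Cfsg.Agent.Cit.CV1

open Subgroup Cfsg Cit Tau CV

variable {G : Type*} [Group G] [Finite G] {Om : Set (Subgroup G)} {U : Subgroup G → Subgroup G}
  {H K K' L M N N' P S : Subgroup G} {e g q s t u v w x y z : G} {F : Set (Subgroup G)}

/-- the members over `z` -/
def ov (Om : Set (Subgroup G)) (z : G) : Set (Subgroup G) := {K | K ∈ Om ∧ zz K = z}

/-- the subgroup generated by the `V_K`, `K` over `z` -/
def AV (Om : Set (Subgroup G)) (U : Subgroup G → Subgroup G) (z : G) : Subgroup G :=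
  closure {v | ∃ K ∈ ov Om z, v ∈ U K}

/-- generated by the `z dl s v_K`, `K ∈ F` -/
def WV (U : Subgroup G → Subgroup G) (z s : G) (F : Set (Subgroup G)) : Subgroup G :=
  closure {w | ∃ K ∈ F, ∃ v ∈ U K, orderOf v = 4 ∧ w = z * dl s v}

/-- admissible sets -/
def Adm (Om : Set (Subgroup G)) (z s : G) (F : Set (Subgroup G)) : Prop :=
  ∀ K ∈ F, K ∈ ov Om z ∧ cj s K ∉ F

theorem Adm.mono (h : Adm Om z s F) {F' : Set (Subgroup G)} (hF : F' ⊆ F) : Adm Om z s F' :=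
  fun K hK => ⟨(h K (hF hK)).1, fun h1 => (h K (hF hK)).2 (hF h1)⟩

section

variable (h : RW Om U) (m : MM Om z s)
include h

theorem RW.av_comm {a b : G} (ha : a ∈ AV Om U z) (hb : b ∈ AV Om U z) : a * b = b * a := by
  have h0 : ∀ K ∈ ov Om z, ∀ L ∈ ov Om z, ∀ v ∈ U K, ∀ w ∈ U L, v * w = w * v := by
    intro K hK L hL v hv w hw
    by_cases hKL : K = L
    · subst hKL
      obtain ⟨v₀, hv₀, hv₀4⟩ := h.exists_v hK.1
      obtain ⟨i, rfl⟩ := h.exists_pw_U hK.1 hv₀ hv₀4 hv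
      obtain ⟨j, rfl⟩ := h.exists_pw_U hK.1 hv₀ hv₀4 hw
      exact pw_pw_comm i j
    · exact h.comm_of_zz_eq hK.1 hL.1 (hK.2.trans hL.2.symm) hKL (h.vch.le K hK.1 hv) (h.vch.le L hL.1 hw)
  have h1 : AV Om U z ≤ centralizer {v | ∃ K ∈ ov Om z, v ∈ U K} := by
    rw [AV, closure_le]
    rintro v ⟨K, hK, hv⟩
    rw [SetLike.mem_coe, mem_centralizer_iff]
    rintro w ⟨L, hL, hw⟩
    exact h0 L hL K hK w hw v hv
  have h2 : AV Om U z ≤ centralizer ({a} : Set G) := by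
    rw [AV, closure_le]
    intro v hv
    rw [SetLike.mem_coe, mem_centralizer_singleton_iff]
    exact mem_centralizer_iff.1 (h1 ha) v hv
  exact (mem_centralizer_singleton_iff.1 (h2 hb)).symm

include m

theorem MM.cj_cj_s (K : Subgroup G) : cj s (cj s K) = K := by
  rw [← cj_mul, m.ss h, cj_one]

theorem MM.cj_mem_ov (hK : K ∈ ov Om z) : cj s K ∈ ov Om z := ⟨m.mem_cj_s h hK.1, m.zz_cj_s h hK.1 hK.2⟩

theorem MM.w_mem_av (hK : K ∈ ov Om z) (hv : v ∈ U K) (hv4 : orderOf v = 4) : z * dl s v ∈ AV Om U z := by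
  have h1 : v ∈ AV Om U z := subset_closure ⟨K, hK, hv⟩
  have h2 : s * v * s⁻¹ ∈ AV Om U z := subset_closure ⟨cj s K, m.cj_mem_ov h hK, h.vch.conj_mem hK.1 hv s⟩
  have h3 : z ∈ AV Om U z := by
    have h4 := mul_mem h1 h1
    rwa [m.qq h hK.1 hK.2 (h.vch.le K hK.1 hv) hv4] at h4
  exact mul_mem h3 (mul_mem h1 h2)

theorem MM.wv_le (hF : Adm Om z s F) : WV U z s F ≤ AV Om U z := by
  rw [WV, closure_le]
  rintro w ⟨K, hK, v, hv, hv4, rfl⟩
  exact m.w_mem_av h (hF K hK).1 hv hv4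

/-- the elements of `WV U z s F` -/
theorem MM.wv_spec (hF : Adm Om z s F) (hw : w ∈ WV U z s F) :
    w * w = 1 ∧ s * w = w * s ∧ ∃ a ∈ AV Om U z, a⁻¹ * s * a = s * w := by
  induction hw using closure_induction with
  | mem w hw =>
    obtain ⟨K, hK, v, hv, hv4, rfl⟩ := hw
    obtain ⟨⟨hK, hz⟩, -⟩ := hF K hK
    have hvK := h.vch.le K hK hv
    exact ⟨m.w_w h hK hz hvK hv4, m.s_w h hK hz hvK hv4, v, subset_closure ⟨K, ⟨hK, hz⟩, hv⟩, m.conj_s h hK hz hvK hv4⟩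
  | one => exact ⟨one_mul 1, by rw [mul_one, one_mul], 1, one_mem _, by group⟩
  | mul w₁ w₂ hw₁ hw₂ ih₁ ih₂ =>
    obtain ⟨h1, h2, a₁, ha₁, h3⟩ := ih₁
    obtain ⟨h1', h2', a₂, ha₂, h3'⟩ := ih₂
    have hA₁ := m.wv_le h hF hw₁
    have hA₂ := m.wv_le h hF hw₂
    have hc := h.av_comm hA₁ hA₂
    refine ⟨?_, ?_, a₁ * a₂, mul_mem ha₁ ha₂, ?_⟩
    · calc w₁ * w₂ * (w₁ * w₂) = w₁ * (w₂ * w₁) * w₂ := by group
        _ = (w₁ * w₁) * (w₂ * w₂) := by rw [← hc]; group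
        _ = 1 := by rw [h1, h1', one_mul]
    · rw [← mul_assoc, h2, mul_assoc, h2', mul_assoc]
    · calc (a₁ * a₂)⁻¹ * s * (a₁ * a₂) = a₂⁻¹ * (a₁⁻¹ * s * a₁) * a₂ := by group
        _ = (a₂⁻¹ * s * a₂) * (a₂⁻¹ * (w₁ * a₂)) := by rw [h3]; group
        _ = s * w₂ * w₁ := by rw [h3', h.av_comm hA₁ ha₂, inv_mul_cancel_left]
        _ = s * (w₁ * w₂) := by rw [hc, mul_assoc]
  | inv w hw ih =>
    obtain ⟨h1, h2, a, ha, h3⟩ := ih
    have h4 : w⁻¹ = w := inv_eq_of_mul_eq_one_right h1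
    rw [h4]
    exact ⟨h1, h2, a, ha, h3⟩

/-- `WV F` centralises `K` if `K, K^s ∉ F` -/
theorem MM.wv_comm (hF : Adm Om z s F) (hK : K ∈ ov Om z) (h1 : K ∉ F) (h2 : cj s K ∉ F) (hw : w ∈ WV U z s F)
    (hy : y ∈ K) : y * w = w * y := by
  induction hw using closure_induction with
  | mem w hw =>
    obtain ⟨L, hL, v, hv, hv4, rfl⟩ := hw
    obtain ⟨⟨hLO, hz⟩, -⟩ := hF L hL
    have h3 := m.comm_dl_of_ne h hLO hz hK.1 hK.2 (by rintro rfl; exact h1 hL)
      (by rintro rfl; rw [m.cj_cj_s h L] at h2; exact h2 hL) (h.vch.le L hLO hv) hy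
    rw [← mul_assoc, m.z_comm h hK.1 hK.2 hy, mul_assoc, h3, mul_assoc]
  | one => rw [mul_one, one_mul]
  | mul w₁ w₂ _ _ ih₁ ih₂ => rw [← mul_assoc, ih₁, mul_assoc, ih₂, mul_assoc]
  | inv w _ ih => exact (Commute.inv_right (show Commute y w from ih)).eq

end

/-- the elements `≠ 1` of `WV F` do not centralise all `K ∈ F`, and `2 ^ |F| ≤ |WV F|` -/
theorem MM.wv_main (h : RW Om U) (m : MM Om z s) (hfin : F.Finite) : Adm Om z s F →
    (∀ w ∈ WV U z s F, w ≠ 1 → ∃ K ∈ F, ∃ y ∈ K, y * w ≠ w * y) ∧ 2 ^ F.ncard ≤ Nat.card (WV U z s F) := by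
  induction F, hfin using Set.Finite.induction_on with
  | empty =>
    intro _
    have h1 : WV U z s ∅ = ⊥ := by
      rw [WV, closure_eq_bot_iff]
      rintro w ⟨K, hK, -⟩
      exact absurd hK (Set.notMem_empty K)
    rw [h1]
    refine ⟨fun w hw hw1 => absurd (mem_bot.1 hw) hw1, ?_⟩
    rw [Set.ncard_empty, pow_zero]
    exact Nat.card_pos
  | @insert K F hKF hF ih =>
    intro hA
    have hAF : Adm Om z s F := hA.mono (Set.subset_insert _ _)
    obtain ⟨ih1, ih2⟩ := ih hAF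
    obtain ⟨⟨hK, hz⟩, hKs⟩ := hA K (Set.mem_insert _ _)
    have hKs' : cj s K ∉ F := fun h1 => hKs (Set.mem_insert_of_mem _ h1)
    obtain ⟨v, hv, hv4⟩ := h.exists_v hK
    have hvK := h.vch.le K hK hv
    obtain ⟨y, hy, -, hyv⟩ := h.exists_ny hK hv hv4
    obtain ⟨w₀, hw₀⟩ : ∃ w₀, w₀ = z * dl s v := ⟨_, rfl⟩
    have hyw : y * w₀ ≠ w₀ * y := fun hc => hyv ((m.comm_w_iff h hK hz hvK hv4 hy).1 (by rw [← hw₀]; exact hc))
    have hw₀w : w₀ * w₀ = 1 := by rw [hw₀]; exact m.w_w h hK hz hvK hv4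
    have hcF : ∀ w ∈ WV U z s F, y * w = w * y := fun w hw => m.wv_comm h hAF ⟨hK, hz⟩ hKF hKs' hw hy
    have hle : WV U z s F ≤ WV U z s (insert K F) := by
      apply Subgroup.closure_mono
      rintro w ⟨L, hL, hw⟩
      exact ⟨L, Set.mem_insert_of_mem _ hL, hw⟩
    have hw₀' : w₀ ∈ WV U z s (insert K F) := subset_closure ⟨K, Set.mem_insert _ _, v, hv, hv4, hw₀⟩
    have hw₀n : w₀ ∉ WV U z s F := fun h1 => hyw (hcF w₀ h1)
    -- the elements
    have helt : ∀ w ∈ WV U z s (insert K F), w ∈ WV U z s F ∨ ∃ w' ∈ WV U z s F, w = w₀ * w' := by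
      have hcomm : ∀ w' ∈ WV U z s F, w' * w₀ = w₀ * w' := fun w' hw' =>
        h.av_comm (m.wv_le h hAF hw') (by rw [hw₀]; exact m.w_mem_av h ⟨hK, hz⟩ hv hv4)
      intro w hw
      induction hw using closure_induction with
      | mem w hw =>
        obtain ⟨L, hL, v', hv', hv'4, rfl⟩ := hw
        rcases hL with rfl | hL
        · right
          refine ⟨1, one_mem _, ?_⟩
          rw [mul_one, hw₀]
          rcases h.eq_or_inv hK hv hv4 hv' hv'4 with rfl | rfl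
          · rfl
          · have h1 : v⁻¹ = v * z := by
              rw [inv_eq_iff_mul_eq_one, ← mul_assoc, m.qq h hK hz hvK hv4, m.zz' h]
            have hzK : z ∈ L := by rw [← hz]; exact h.hyp.zz_mem hK
            rw [h1, m.dl_mul h hK hz hvK hzK, m.dl_z h, mul_one]
        · left
          exact subset_closure ⟨L, hL, v', hv', hv'4, rfl⟩
      | one => exact Or.inl (one_mem _)
      | mul a b _ _ iha ihb =>
        rcases iha with iha | ⟨a', ha', rfl⟩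
        · rcases ihb with ihb | ⟨b', hb', rfl⟩
          · exact Or.inl (mul_mem iha ihb)
          · exact Or.inr ⟨a * b', mul_mem iha hb', by rw [← mul_assoc, hcomm a iha, mul_assoc]⟩
        · rcases ihb with ihb | ⟨b', hb', rfl⟩
          · exact Or.inr ⟨a' * b, mul_mem ha' ihb, by rw [mul_assoc]⟩
          · left
            have h1 : w₀ * a' * (w₀ * b') = a' * b' := by
              calc w₀ * a' * (w₀ * b') = w₀ * (a' * w₀) * b' := by group
                _ = (w₀ * w₀) * (a' * b') := by rw [hcomm a' ha']; group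
                _ = a' * b' := by rw [hw₀w, one_mul]
            rw [h1]
            exact mul_mem ha' hb'
      | inv a _ iha =>
        rcases iha with iha | ⟨a', ha', rfl⟩
        · exact Or.inl (inv_mem iha)
        · refine Or.inr ⟨a'⁻¹, inv_mem ha', ?_⟩
          rw [mul_inv_rev, inv_eq_of_mul_eq_one_right hw₀w]
          exact hcomm _ (inv_mem ha')
    refine ⟨?_, ?_⟩
    · intro w hw hw1
      rcases helt w hw with h1 | ⟨w', hw', rfl⟩
      · obtain ⟨L, hL, h2⟩ := ih1 w h1 hw1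
        exact ⟨L, Set.mem_insert_of_mem _ hL, h2⟩
      · refine ⟨K, Set.mem_insert _ _, y, hy, fun hc => hyw ?_⟩
        have h2 := hcF w' hw'
        have h3 : y * w₀ * w' = w₀ * y * w' := by
          calc y * w₀ * w' = y * (w₀ * w') := by group
            _ = w₀ * w' * y := hc
            _ = w₀ * (w' * y) := by group
            _ = w₀ * y * w' := by rw [← h2]; group
        exact mul_right_cancel h3
    · rw [Set.ncard_insert_of_notMem hKF hF, pow_succ]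
      have h1 : Nat.card (WV U z s F) * (WV U z s F).relIndex (WV U z s (insert K F)) =
          Nat.card (WV U z s (insert K F)) := by
        rw [← relIndex_bot_left (WV U z s F), relIndex_mul_relIndex ⊥ _ _ bot_le hle, relIndex_bot_left]
      rw [← h1]
      refine Nat.mul_le_mul ih2 ?_
      by_contra h2
      have h3 : (WV U z s F).relIndex (WV U z s (insert K F)) ≠ 0 :=
        index_ne_zero_of_finite (H := (WV U z s F).subgroupOf (WV U z s (insert K F)))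
      have h4 : (WV U z s F).relIndex (WV U z s (insert K F)) = 1 := by omega
      rw [relIndex_eq_one] at h4
      exact hw₀n (h4 hw₀')

/-- `WV F` acts semiregularly on the members over `s` -/
theorem TW.wv_move (h : TW Om U) (m : MM Om z s) (hF : Adm Om z s F) (hw : w ∈ WV U z s F) (hw1 : w ≠ 1)
    (hN : N ∈ ov Om s) : cj w N ≠ N := by
  obtain ⟨K, hKF, y, hy, hyw⟩ := (m.wv_main h.toRW (Set.toFinite F) hF).1 w hw hw1
  obtain ⟨⟨hK, hz⟩, -⟩ := hF K hKF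
  obtain ⟨h1, h2, a, ha, h3⟩ := m.wv_spec h.toRW hF hw
  obtain ⟨v, hv, hv4⟩ := h.exists_v hK
  have hvw : v * w = w * v := h.av_comm (subset_closure ⟨K, ⟨hK, hz⟩, hv⟩) (m.wv_le h.toRW hF hw)
  have hzM : zz (cj a⁻¹ N) = zz N * w := by rw [h.hyp.zz_cj hN.1, inv_inv, hN.2, h3]
  rcases h.lemX hN.1 (h.hO N hN.1 a⁻¹) hzM h1 (by rw [hN.2]; exact h2) hK (h.vch.le K hK hv) hv4 hvw hy hyw
    with h4 | h4
  · exfalso
    refine h.tau_mm m hw1 (fun N₁ hN₁ hz₁ => h4 N₁ hN₁ (hz₁.trans hN.2.symm)) hK (m.tt h.toRW hK hz) hv hv4 hvw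
  · intro hc
    apply h4.mz N hN.1 rfl
    rw [cj_mul, hc, mem_normalizer_iff_cj.1 (le_normalizer (h.hyp.zz_mem hN.1))]

theorem TW.card_le (h : TW Om U) (m : MM Om z s) (hF : Adm Om z s F) : 2 ^ F.ncard ≤ (ov Om s).ncard := by
  refine ((m.wv_main h.toRW (Set.toFinite F) hF).2).trans ?_
  obtain ⟨N, hN, hzN⟩ := m.exs
  rw [← Nat.card_coe_set_eq]
  refine Nat.card_le_card_of_injective (fun w : WV U z s F => (⟨cj (w : G) N, h.hO N hN _, ?_⟩ : ov Om s)) ?_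
  · have h1 := (m.wv_spec h.toRW hF w.2).2.1
    rw [h.hyp.zz_cj hN, hzN, ← h1, mul_inv_cancel_right]
  · intro w₁ w₂ hw
    have h1 : cj (w₁ : G) N = cj (w₂ : G) N := congrArg Subtype.val hw
    by_contra hne
    refine h.wv_move m hF (mul_mem (inv_mem w₂.2) w₁.2) ?_ ⟨hN, hzN⟩ (w := (w₂ : G)⁻¹ * (w₁ : G)) ?_
    · intro h2
      exact hne (Subtype.ext (inv_mul_eq_one.1 h2).symm)
    · rw [cj_mul, h1, cj_inv_cj]

/-- a maximal admissible set -/
theorem MM.exists_adm (h : RW Om U) (m : MM Om z s) : ∃ F, Adm Om z s F ∧ (ov Om z).ncard ≤ 2 * F.ncard := by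
  obtain ⟨F, hF⟩ := (Set.toFinite {F : Set (Subgroup G) | Adm Om z s F}).exists_maximal
    ⟨∅, fun K hK => absurd hK (Set.notMem_empty K)⟩
  refine ⟨F, hF.1, ?_⟩
  have h1 : ov Om z ⊆ F ∪ cj s '' F := by
    intro K hK
    by_contra hcon
    rw [Set.mem_union, not_or] at hcon
    obtain ⟨h2, h3⟩ := hcon
    have h4 : Adm Om z s (insert K F) := by
      rintro L (rfl | hL)
      · refine ⟨hK, ?_⟩
        rintro (h5 | h5)
        · exact m.mz L hK.1 hK.2 h5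
        · exact h3 ⟨cj s L, h5, m.cj_cj_s h L⟩
      · obtain ⟨h5, h6⟩ := hF.1 L hL
        refine ⟨h5, ?_⟩
        rintro (h7 | h7)
        · apply h3
          exact ⟨L, hL, h7⟩
        · exact h6 h7
    exact h2 (hF.2 h4 (Set.subset_insert _ _) (Set.mem_insert _ _))
  calc (ov Om z).ncard ≤ (F ∪ cj s '' F).ncard := Set.ncard_le_ncard h1 (Set.toFinite _)
    _ ≤ F.ncard + (cj s '' F).ncard := Set.ncard_union_le _ _
    _ ≤ F.ncard + F.ncard := by
      have := Set.ncard_image_le (f := cj s) (Set.toFinite F)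
      omega
    _ = 2 * F.ncard := by ring

theorem TW.ncard_le_four (h : TW Om U) (m : MM Om z s) (heq : (ov Om z).ncard = (ov Om s).ncard) :
    (ov Om s).ncard ≤ 4 := by
  obtain ⟨F, hF, h1⟩ := m.exists_adm h.toRW
  have h2 := h.card_le m hF
  have h3 : 2 ^ F.ncard ≤ 2 * F.ncard := by omega
  have h4 : F.ncard ≤ 2 := by
    by_contra h5
    obtain ⟨k, hk⟩ : ∃ k, F.ncard = k + 3 := ⟨F.ncard - 3, by omega⟩
    rw [hk] at h3
    have h6 : k < 2 ^ k := Nat.lt_two_pow_self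
    have h7 : 2 ^ (k + 3) = 8 * 2 ^ k := by ring
    omega
  omega

/-- replacing `(z, s)` by `(s, s^v)` -/
theorem TW.exists_mm_eq (h : TW Om U) (m : MM Om z s) : ∃ z' s' : G, MM Om z' s' ∧ (ov Om z').ncard = (ov Om s').ncard := by
  obtain ⟨K, hK, hz⟩ := m.exz
  obtain ⟨v, hv, hv4⟩ := h.exists_v hK
  have hvK := h.vch.le K hK hv
  obtain ⟨-, m'⟩ := h.mm_v m hK hz hv hv4
  refine ⟨_, _, m', ?_⟩
  rw [← m.conj_s h.toRW hK hz hvK hv4]
  have h1 : ov Om (v⁻¹ * s * v) = cj v⁻¹ '' ov Om s := by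
    ext N
    constructor
    · rintro ⟨hN, hzN⟩
      refine ⟨cj v N, ⟨h.hO N hN v, ?_⟩, cj_inv_cj v N⟩
      rw [h.hyp.zz_cj hN, hzN]
      group
    · rintro ⟨N, ⟨hN, hzN⟩, rfl⟩
      refine ⟨h.hO N hN _, ?_⟩
      rw [h.hyp.zz_cj hN, hzN, inv_inv]
  rw [h1, Set.ncard_image_of_injective _ (cj_injective v⁻¹)]

/-! ### `|ov Om s| ≤ 4` implies `ov Om z = {K, K^s}` -/

/-- if there are further members over `z`, all `z dl s q` move all members over `s` -/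
theorem TW.mv_of_ne (h : TW Om U) (m : MM Om z s) (hK : K ∈ ov Om z) (hL : L ∈ ov Om z) (h1 : L ≠ K)
    (h2 : L ≠ cj s K) (hq : q ∈ K) (hq4 : orderOf q = 4) (hN : N ∈ ov Om s) : cj (z * dl s q) N ≠ N := by
  rcases m.w_dich h.toRW hK.1 hK.2 hq hq4 with h3 | h3
  · exfalso
    obtain ⟨u, hu, hu4⟩ := h.exists_v hL.1
    have huL := h.vch.le L hL.1 hu
    refine h.tau_mm m (m.w_ne h.toRW hK.1 hK.2 hq hq4) h3 hL.1 (m.tt h.toRW hL.1 hL.2) hu hu4 ?_
    rw [← mul_assoc, m.z_comm h.toRW hL.1 hL.2 huL, mul_assoc,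
      m.comm_dl_of_ne h.toRW hK.1 hK.2 hL.1 hL.2 h1 h2 hq huL, mul_assoc]
  · exact h3.1 N hN.1 hN.2

theorem MM.cj_dl_mem (h : RW Om U) (m : MM Om z s) (hK : K ∈ ov Om z) (hx : x ∈ K) (hN : N ∈ ov Om s) :
    cj (dl s x) N ∈ ov Om s := by
  refine ⟨h.hO N hN.1 _, ?_⟩
  rw [h.hyp.zz_cj hN.1, hN.2, ← m.s_dl h hK.1 hK.2 hx, mul_inv_cancel_right]

/-- some `dl s q`, `q ∈ K` of order 4, fixes `N` -/
theorem TW.exists_fix (h : TW Om U) (m : MM Om z s) (h4 : (ov Om s).ncard ≤ 4) (hK : K ∈ ov Om z)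
    (hL : L ∈ ov Om z) (h1 : L ≠ K) (h2 : L ≠ cj s K) (hN : N ∈ ov Om s) :
    ∃ q ∈ K, orderOf q = 4 ∧ cj (dl s q) N = N := by
  by_contra hcon
  push Not at hcon
  obtain ⟨v, hv, hv4⟩ := h.exists_v hK.1
  obtain ⟨y, hy, hyX⟩ := h.exists_y hK.1
  have hvK := h.vch.le K hK.1 hv
  have hy4 := (h.y_facts hK.1 hy hyX).2.1
  have hvyX : v * y ∉ XX U K := fun hh => hyX (by
    have := (XX U K).mul_mem ((XX U K).inv_mem (h.U_le_XX hK.1 hv)) hh
    rwa [inv_mul_cancel_left] at this)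
  have hvy := K.mul_mem hvK hy
  have hvy4 := (h.y_facts hK.1 hvy hvyX).2.1
  have hd := m.dl_mul h.toRW hK.1 hK.2 hvK hy
  obtain ⟨a, ha⟩ : ∃ a, a = dl s v := ⟨_, rfl⟩
  obtain ⟨b, hb⟩ : ∃ b, b = dl s y := ⟨_, rfl⟩
  have a1 := hcon v hvK hv4
  have a2 := hcon y hy hy4
  have a3 := hcon _ hvy hvy4
  have b1 := h.mv_of_ne m hK hL h1 h2 hvK hv4 hN
  have b2 := h.mv_of_ne m hK hL h1 h2 hy hy4 hN
  have b3 := h.mv_of_ne m hK hL h1 h2 hvy hvy4 hN
  have c1 := m.cj_dl_mem h.toRW hK hvK hN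
  have c2 := m.cj_dl_mem h.toRW hK hy hN
  have haa := m.dl_dl h.toRW hK.1 hK.2 hvK hv4
  have hza := m.z_dl h.toRW hK.1 hK.2 hvK
  rw [hd] at a3 b3
  rw [← ha] at a1 b1 c1 haa hza a3 b3
  rw [← hb] at a2 b2 c2 a3 b3
  have hzz := m.zz' h.toRW
  have hcz : ∀ M : Subgroup G, cj z (cj z M) = M := fun M => by rw [← cj_mul, hzz, cj_one]
  have hca : ∀ M : Subgroup G, cj a (cj a M) = M := fun M => by rw [← cj_mul, haa, cj_one]
  have hzca : ∀ M : Subgroup G, cj z (cj a M) = cj a (cj z M) := fun M => by rw [← cj_mul, ← cj_mul, hza]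
  have hov : ∀ M ∈ ov Om s, cj z M ∈ ov Om s := fun M hM => m.symm.cj_mem_ov h.toRW hM
  have hmv : ∀ M ∈ ov Om s, cj z M ≠ M := fun M hM => m.ms M hM.1 hM.2
  have hmv2 : ∀ {x : G}, cj (z * x) N ≠ N → cj x N ≠ cj z N := by
    intro x hx hh
    apply hx
    rw [cj_mul, hh, hcz]
  have b1' := hmv2 b1
  have b2' := hmv2 b2
  have b3' := hmv2 b3
  obtain ⟨N₁, hN₁⟩ : ∃ N₁, N₁ = cj a N := ⟨_, rfl⟩
  rw [← hN₁] at a1 b1' c1
  -- four members
  have hall : ∀ M ∈ ov Om s, M = N ∨ M = cj z N ∨ M = N₁ ∨ M = cj z N₁ := by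
    intro M hM
    by_contra hh
    push Not at hh
    obtain ⟨e1, e2, e3, e4⟩ := hh
    have n1 : N₁ ≠ N := a1
    have n2 : N₁ ≠ cj z N := b1'
    have n3 : cj z N₁ ≠ N := fun hh => n2 (by rw [← hcz N₁, hh])
    have n4 : cj z N₁ ≠ cj z N := fun hh => n1 (cj_inj.1 hh)
    have hS : ({M, N, cj z N, N₁, cj z N₁} : Set (Subgroup G)) ⊆ ov Om s := by
      rintro A (rfl | rfl | rfl | rfl | rfl)
      · exact hM
      · exact hN
      · exact hov N hN
      · exact c1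
      · exact hov N₁ c1
    have hc := Set.ncard_le_ncard hS (Set.toFinite _)
    have h5 : ({M, N, cj z N, N₁, cj z N₁} : Set (Subgroup G)).ncard = 5 := by
      rw [Set.ncard_insert_of_notMem, Set.ncard_insert_of_notMem, Set.ncard_insert_of_notMem,
        Set.ncard_pair (hmv N₁ c1).symm]
      · simp only [Set.mem_insert_iff, Set.mem_singleton_iff, not_or]
        exact ⟨n2.symm, n4.symm⟩
      · simp only [Set.mem_insert_iff, Set.mem_singleton_iff, not_or]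
        exact ⟨(hmv N hN).symm, n1.symm, n3.symm⟩
      · simp only [Set.mem_insert_iff, Set.mem_singleton_iff, not_or]
        exact ⟨e1, e2, e3, e4⟩
    omega
  have d3 : cj (a * b) N ∈ ov Om s := by
    have := m.cj_dl_mem h.toRW hK hvy hN
    rwa [hd, ← ha, ← hb] at this
  have f2 : cj b N = N₁ ∨ cj b N = cj z N₁ := by
    rcases hall _ c2 with hh | hh | hh | hh
    · exact absurd hh a2
    · exact absurd hh b2'
    · exact Or.inl hh
    · exact Or.inr hh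
  have f3 : cj (a * b) N = N ∨ cj (a * b) N = cj z N := by
    rw [cj_mul]
    rcases f2 with hh | hh
    · left; rw [hh, hN₁, hca]
    · right; rw [hh, hN₁, ← hzca, hca]
  rcases f3 with hh | hh
  · exact a3 hh
  · exact b3' hh

/-- `|ov Om s| ≤ 4` : `ov Om z = {K, K^s}` -/
theorem TW.two_of_four (h : TW Om U) (m : MM Om z s) (h4 : (ov Om s).ncard ≤ 4) (hK : K ∈ ov Om z) (hL : L ∈ ov Om z) :
    L = K ∨ L = cj s K := by
  by_contra hcon
  push Not at hcon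
  obtain ⟨h1, h2⟩ := hcon
  obtain ⟨N, hN, hzN⟩ := m.exs
  have h1' : K ≠ L := h1.symm
  have h2' : K ≠ cj s L := fun hh => h2 (by rw [hh, m.cj_cj_s h.toRW])
  obtain ⟨q₁, hq₁, hq₁4, hf₁⟩ := h.exists_fix m h4 hK hL h1 h2 ⟨hN, hzN⟩
  obtain ⟨q₂, hq₂, hq₂4, hf₂⟩ := h.exists_fix m h4 hL hK h1' h2' ⟨hN, hzN⟩
  have hmv := h.mv_of_ne m hK hL h1 h2 hq₁ hq₁4 ⟨hN, hzN⟩
  obtain ⟨a, ha⟩ : ∃ a, a = dl s q₁ := ⟨_, rfl⟩
  obtain ⟨b, hb⟩ : ∃ b, b = dl s q₂ := ⟨_, rfl⟩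
  have hLs := m.cj_mem_ov h.toRW hL
  -- `b` commutes with `K`
  have hbK : ∀ x ∈ K, x * b = b * x := fun x hx => by
    rw [hb]; exact m.comm_dl_of_ne h.toRW hL.1 hL.2 hK.1 hK.2 h1' h2' hq₂ hx
  have haL : ∀ x ∈ L, x * a = a * x := fun x hx => by
    rw [ha]; exact m.comm_dl_of_ne h.toRW hK.1 hK.2 hL.1 hL.2 h1 h2 hq₁ hx
  have hsb : s * b = b * s := by rw [hb]; exact m.s_dl h.toRW hL.1 hL.2 hq₂
  have hsa : s * a = a * s := by rw [ha]; exact m.s_dl h.toRW hK.1 hK.2 hq₁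
  have hzb : z * b = b * z := by rw [hb]; exact m.z_dl h.toRW hL.1 hL.2 hq₂
  have hab : a * b = b * a := by
    have c1 : Commute b q₁ := (hbK q₁ hq₁).symm
    have c2 : Commute b s := hsb.symm
    have c3 : Commute b a := by
      rw [ha, dl]
      exact c1.mul_right ((c2.mul_right c1).mul_right c2.inv_right)
    exact c3.eq.symm
  have haa : a * a = 1 := by rw [ha]; exact m.dl_dl h.toRW hK.1 hK.2 hq₁ hq₁4
  have hbb : b * b = 1 := by rw [hb]; exact m.dl_dl h.toRW hL.1 hL.2 hq₂ hq₂4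
  have hw2 : a * b * (a * b) = 1 := by
    calc a * b * (a * b) = a * (b * a) * b := by group
      _ = (a * a) * (b * b) := by rw [← hab]; group
      _ = 1 := by rw [haa, hbb, one_mul]
  have hsw : s * (a * b) = a * b * s := by rw [← mul_assoc, hsa, mul_assoc, hsb, mul_assoc]
  have hfix : cj (a * b) N = N := by rw [cj_mul, hb, hf₂, ha, hf₁]
  have hqw : q₁ * (a * b) = a * b * q₁ := by
    have e1 : q₁ * a = a * q₁ := by rw [ha]; exact m.q_dl h.toRW hK.1 hK.2 hq₁ hq₁4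
    rw [← mul_assoc, e1, mul_assoc, hbK q₁ hq₁, mul_assoc]
  obtain ⟨y, hy, hyq⟩ := m.exists_nc h.toRW hK.1 hK.2 hq₁ hq₁4
  have hyw : y * (a * b) ≠ a * b * y := by
    intro hc
    apply hyq
    rw [← m.comm_dl_iff h.toRW hK.1 hK.2 hq₁ hy, ← ha]
    have e1 : y * a * b = a * y * b := by
      calc y * a * b = y * (a * b) := by group
        _ = a * (b * y) := by rw [hc]; group
        _ = a * y * b := by rw [← hbK y hy]; group
    exact mul_right_cancel e1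
  have hw1 : a * b ≠ 1 := by
    intro hh
    rw [hh] at hyw
    exact hyw (by rw [mul_one, one_mul])
  have hg : (q₁ * q₂)⁻¹ * s * (q₁ * q₂) = s * (a * b) := by
    have e1 := m.conj_s h.toRW hK.1 hK.2 hq₁ hq₁4
    have e2 := m.conj_s h.toRW hL.1 hL.2 hq₂ hq₂4
    rw [← ha] at e1
    rw [← hb] at e2
    have e3 : q₂⁻¹ * (z * a) * q₂ = z * a := by
      have c1 : Commute q₂ a := haL q₂ hq₂
      have c2 : Commute q₂ z := m.z_comm h.toRW hL.1 hL.2 hq₂
      have c3 := c2.mul_right c1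
      rw [mul_assoc, ← c3.eq, inv_mul_cancel_left]
    calc (q₁ * q₂)⁻¹ * s * (q₁ * q₂) = q₂⁻¹ * (q₁⁻¹ * s * q₁) * q₂ := by group
      _ = (q₂⁻¹ * s * q₂) * (q₂⁻¹ * (z * a) * q₂) := by rw [e1]; group
      _ = s * (z * b) * (z * a) := by rw [e2, e3]
      _ = s * (b * (z * z) * a) := by rw [hzb]; group
      _ = s * (a * b) := by rw [m.zz' h.toRW, mul_one, hab]
  have hzM : zz (cj (q₁ * q₂)⁻¹ N) = zz N * (a * b) := by
    rw [h.hyp.zz_cj hN, inv_inv, hzN, hg]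
  rcases h.lemX hN (h.hO N hN _) hzM hw2 (by rw [hzN]; exact hsw) hK.1 hq₁ hq₁4 hqw hy hyw with h5 | h5
  · have h6 := h.tau2 m hw1 (fun N₁ hN₁ hz₁ => h5 N₁ hN₁ (hz₁.trans hzN.symm)) hK.1 hK.2 hq₁ hq₁4 hqw hN hzN
    apply hmv
    rw [← mem_normalizer_iff_cj]
    exact mem_normalizer_of_comm fun k hk => (h6 k hk).symm
  · apply h5.mz N hN rfl
    rw [cj_mul, hfix, mem_normalizer_iff_cj.1 (le_normalizer (h.hyp.zz_mem hN))]

/-- an M/M pair with exactly two members over `z` and `s` -/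
structure M2 (Om : Set (Subgroup G)) (z s : G) (K N : Subgroup G) : Prop extends MM Om z s where
  hK : K ∈ Om
  hN : N ∈ Om
  zK : zz K = z
  zN : zz N = s
  aK : ∀ L ∈ Om, zz L = z → L = K ∨ L = cj s K
  aN : ∀ L ∈ Om, zz L = s → L = N ∨ L = cj z N

omit [Finite G] in
theorem M2.symm (m : M2 Om z s K N) : M2 Om s z N K :=
  { m.toMM.symm with hK := m.hN, hN := m.hK, zK := m.zN, zN := m.zK, aK := m.aN, aN := m.aK }

theorem TW.exists_m2 (h : TW Om U) (m : MM Om z s) : ∃ z' s' K' N', M2 Om z' s' K' N' := by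
  obtain ⟨z', s', m', heq⟩ := h.exists_mm_eq m
  have h4 := h.ncard_le_four m' heq
  obtain ⟨K, hK, hzK⟩ := m'.exz
  obtain ⟨N, hN, hzN⟩ := m'.exs
  exact ⟨z', s', K, N, { m' with
    hK := hK, hN := hN, zK := hzK, zN := hzN
    aK := fun L hL hzL => h.two_of_four m' h4 ⟨hK, hzK⟩ ⟨hL, hzL⟩
    aN := fun L hL hzL => h.two_of_four m'.symm (by rw [heq]; exact h4) ⟨hN, hzN⟩ ⟨hL, hzL⟩ }⟩

end Cfsg.Agent.Cit.CV1
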