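import Cfsg.Agent.Cit.Nil.CV1.LemT.XLem

/-!
# (6b)(CV), rank one, LEMMA T: M/M pairs, the maps `dl s q = q * q^s`

For an M/M pair `(z, s)` and `K` over `z`: `dl s` is a homomorphism on `K`, `q⁻¹ s q = s (z dl s q)` for `q` of order 4.
`TW.w_dich` : `z dl s q` centralises all members over `s` or moves all of them.
`TW.tau2` : the second form of (tau).
-/

set_option autoImplicit false
set_option linter.style.haveILetI false
set_option linter.unusedSectionVars false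

namespace Cfsg.Agent.Cit.CV1

open Subgroup Cfsg Cit Tau CV

variable {G : Type*} [Group G] [Finite G] {Om : Set (Subgroup G)} {U : Subgroup G → Subgroup G}
  {H K K' L M N N' P S : Subgroup G} {e g q s t u v w x y z : G}

/-- `q q^s` -/
def dl (s q : G) : G := q * (s * q * s⁻¹)

namespace MM

variable (h : RW Om U) (m : MM Om z s)
include h m

theorem ss : s * s = 1 := by
  obtain ⟨N, hN, rfl⟩ := m.exs
  exact h.hyp.zz_mul hN

theorem zz' : z * z = 1 := by
  obtain ⟨N, hN, rfl⟩ := m.exz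
  exact h.hyp.zz_mul hN

theorem z_ne : z ≠ 1 := by
  obtain ⟨N, hN, rfl⟩ := m.exz
  exact h.hyp.zz_ne hN

theorem s_ne : s ≠ 1 := by
  obtain ⟨N, hN, rfl⟩ := m.exs
  exact h.hyp.zz_ne hN

theorem si : s⁻¹ = s := inv_eq_of_mul_eq_one_right (m.ss h)

theorem zi : z⁻¹ = z := inv_eq_of_mul_eq_one_right (m.zz' h)

theorem zz_cj_s (hK : K ∈ Om) (hz : zz K = z) : zz (cj s K) = z := by
  rw [h.hyp.zz_cj hK, hz, ← m.comm, mul_inv_cancel_right]

theorem mem_cj_s (hK : K ∈ Om) : cj s K ∈ Om := h.hO K hK s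

/-- `K` and `K^s` commute -/
theorem comm_cj_s (hK : K ∈ Om) (hz : zz K = z) (hx : x ∈ K) (hy : y ∈ cj s K) : x * y = y * x :=
  h.comm_of_zz_eq hK (m.mem_cj_s h hK) (by rw [m.zz_cj_s h hK hz, hz]) (Ne.symm (m.mz K hK hz)) hx hy

theorem tt (hK : K ∈ Om) (hz : zz K = z) : TT U K s := by
  obtain ⟨v, hv, hv4⟩ := h.exists_v hK
  refine ⟨by rw [hz]; exact m.comm.symm, v, hv, hv4, fun hc => m.mz K hK hz ?_⟩
  have h1 := h.vch.conj_mem hK hv s
  rw [hc, mul_inv_cancel_right] at h1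
  exact h.eq_of_mem (m.mem_cj_s h hK) hK h1 hv hv4

theorem z_comm (hK : K ∈ Om) (hz : zz K = z) (hx : x ∈ K) : x * z = z * x := by
  rw [← hz]
  exact h.hyp.comm_zz hK (le_normalizer hx)

theorem dl_one : dl s (1 : G) = 1 := by rw [dl]; group

theorem dl_mul (hK : K ∈ Om) (hz : zz K = z) (hx : x ∈ K) (hy : y ∈ K) : dl s (x * y) = dl s x * dl s y := by
  have h1 := m.comm_cj_s h hK hz hy (conj_mem_cj (g := s) hx)
  rw [dl, dl, dl]
  calc x * y * (s * (x * y) * s⁻¹) = x * (y * (s * x * s⁻¹)) * (s * y * s⁻¹) := by group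
    _ = x * (s * x * s⁻¹) * (y * (s * y * s⁻¹)) := by rw [h1]; group

theorem dl_z : dl s z = 1 := by
  rw [dl, ← m.comm, mul_inv_cancel_right, m.zz' h]

theorem s_dl (hK : K ∈ Om) (hz : zz K = z) (hx : x ∈ K) : s * dl s x = dl s x * s := by
  have h1 := m.comm_cj_s h hK hz hx (conj_mem_cj (g := s) hx)
  have h2 : dl s x = (s * x * s⁻¹) * x := h1
  calc s * dl s x = s * (s * x * s⁻¹ * x) := by rw [h2]
    _ = (s * s) * x * s⁻¹ * x := by group
    _ = x * s * x := by rw [m.ss h, one_mul, m.si h]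
    _ = dl s x * s := by rw [dl]; group

theorem z_dl (hK : K ∈ Om) (hz : zz K = z) (hx : x ∈ K) : z * dl s x = dl s x * z := by
  have h1 : Commute z x := (m.z_comm h hK hz hx).symm
  have h2 : Commute z s := m.comm
  exact (h1.mul_right ((h2.mul_right h1).mul_right h2.inv_right)).eq

/-- `y ∈ K` acts on `dl s x` as on `x` -/
theorem comm_dl_iff (hK : K ∈ Om) (hz : zz K = z) (hx : x ∈ K) (hy : y ∈ K) :
    y * dl s x = dl s x * y ↔ y * x = x * y := by
  have h1 : Commute y (s * x * s⁻¹) := m.comm_cj_s h hK hz hy (conj_mem_cj (g := s) hx)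
  rw [dl]
  constructor
  · intro hc
    have h2 : y * x * (s * x * s⁻¹) = x * y * (s * x * s⁻¹) := by
      calc y * x * (s * x * s⁻¹) = y * (x * (s * x * s⁻¹)) := by group
        _ = x * (s * x * s⁻¹) * y := hc
        _ = x * ((s * x * s⁻¹) * y) := by group
        _ = x * (y * (s * x * s⁻¹)) := by rw [h1.eq]
        _ = x * y * (s * x * s⁻¹) := by group
    exact mul_right_cancel h2
  · intro hc
    exact ((show Commute y x from hc).mul_right h1).eq

theorem conj_dl (hK : K ∈ Om) (hz : zz K = z) (hx : x ∈ K) (hy : y ∈ K) :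
    y * dl s x * y⁻¹ = (y * x * y⁻¹) * (s * x * s⁻¹) := by
  have h1 := m.comm_cj_s h hK hz hy (conj_mem_cj (g := s) hx)
  rw [dl]
  calc y * (x * (s * x * s⁻¹)) * y⁻¹ = y * x * y⁻¹ * (y * (s * x * s⁻¹)) * y⁻¹ := by group
    _ = (y * x * y⁻¹) * (s * x * s⁻¹) := by rw [h1]; group

/-- `dl s x` commutes with the members over `z` other than `K`, `K^s` -/
theorem comm_dl_of_ne (hK : K ∈ Om) (hz : zz K = z) (hL : L ∈ Om) (hzL : zz L = z) (h1 : L ≠ K) (h2 : L ≠ cj s K)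
    (hx : x ∈ K) (hy : y ∈ L) : y * dl s x = dl s x * y := by
  have c1 : Commute y x := h.comm_of_zz_eq hL hK (by rw [hz, hzL]) h1 hy hx
  have c2 : Commute y (s * x * s⁻¹) := h.comm_of_zz_eq hL (m.mem_cj_s h hK) (by rw [m.zz_cj_s h hK hz, hzL]) h2 hy
    (conj_mem_cj hx)
  exact (c1.mul_right c2).eq

section four

variable (hK : K ∈ Om) (hz : zz K = z) (hq : q ∈ K) (hq4 : orderOf q = 4)
include hK hz hq hq4

theorem qq : q * q = z := by rw [← hz]; exact h.hyp.sq_eq_zz hK hq hq4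

theorem dl_dl : dl s q * dl s q = 1 := by
  rw [← m.dl_mul h hK hz hq hq, m.qq h hK hz hq hq4, m.dl_z h]

theorem w_w : z * dl s q * (z * dl s q) = 1 := by
  calc z * dl s q * (z * dl s q) = z * (dl s q * z) * dl s q := by group
    _ = z * z * (dl s q * dl s q) := by rw [← m.z_dl h hK hz hq]; group
    _ = 1 := by rw [m.zz' h, m.dl_dl h hK hz hq hq4, one_mul]

theorem s_w : s * (z * dl s q) = z * dl s q * s := by
  rw [← mul_assoc, ← m.comm, mul_assoc, m.s_dl h hK hz hq, mul_assoc]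

/-- `q⁻¹ s q = s (z dl s q)` -/
theorem conj_s : q⁻¹ * s * q = s * (z * dl s q) := by
  have h0 := m.qq h hK hz hq hq4
  have h1 : q⁻¹ = z * q := by
    rw [inv_eq_iff_mul_eq_one, ← mul_assoc, m.z_comm h hK hz hq, mul_assoc, h0]
    exact m.zz' h
  have h2 := m.comm_cj_s h hK hz hq (conj_mem_cj (g := s) hq)
  calc q⁻¹ * s * q = z * (q * (s * q * s⁻¹)) * s := by rw [h1]; group
    _ = z * ((s * q * s⁻¹) * q) * s := by rw [h2]
    _ = s * (z * dl s q) := by
      rw [m.s_w h hK hz hq hq4, dl, h2]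

theorem conj_s' : q * s * q⁻¹ = s * (z * dl s q) := by
  have h0 := m.qq h hK hz hq hq4
  have h1 := m.conj_s h hK hz hq hq4
  have h2 : q * q * s * (q * q)⁻¹ = s := by
    rw [h0, m.comm, mul_inv_cancel_right]
  calc q * s * q⁻¹ = q⁻¹ * (q * q * s * (q * q)⁻¹) * q := by group
    _ = _ := by rw [h2, h1]

theorem q_dl : q * dl s q = dl s q * q := (m.comm_dl_iff h hK hz hq hq).2 rfl

theorem q_w : q * (z * dl s q) = z * dl s q * q := by
  rw [← mul_assoc, m.z_comm h hK hz hq, mul_assoc, m.q_dl h hK hz hq hq4, mul_assoc]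

theorem comm_w_iff (hy : y ∈ K) : y * (z * dl s q) = z * dl s q * y ↔ y * q = q * y := by
  rw [← m.comm_dl_iff h hK hz hq hy, ← mul_assoc, m.z_comm h hK hz hy, mul_assoc, mul_assoc, mul_right_inj]

/-- some element of `K` does not commute with `q` -/
theorem exists_nc : ∃ y ∈ K, y * q ≠ q * y := by
  by_contra hcon
  push Not at hcon
  obtain ⟨v, hv, hv4⟩ := h.exists_v hK
  have hvK := h.vch.le K hK hv
  have hqv : q ∈ U K := by
    apply h.mem_U_of_pow_four hK ((h.mem_XX_iff hK hv hv4 hq).2 (hcon v hvK).symm)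
    rw [← hq4]; exact pow_orderOf_eq_one q
  obtain ⟨y, hy, -, hy'⟩ := h.exists_ny hK hqv hq4
  exact hy' (hcon y hy)

theorem w_ne : z * dl s q ≠ 1 := by
  intro h1
  obtain ⟨y, hy, hyq⟩ := m.exists_nc h hK hz hq hq4
  apply hyq
  rw [← m.comm_w_iff h hK hz hq hq4 hy, h1, mul_one, one_mul]

theorem dl_ne : dl s q ≠ 1 := by
  intro h1
  obtain ⟨y, hy, hyq⟩ := m.exists_nc h hK hz hq hq4
  apply hyq
  rw [← m.comm_dl_iff h hK hz hq hy, h1, mul_one, one_mul]

/-- `s (z dl s q) = zz N'`, `N' = N^q` -/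
theorem zz_cj_q (hN : N ∈ Om) (hzN : zz N = s) : zz (cj q⁻¹ N) = zz N * (z * dl s q) := by
  rw [h.hyp.zz_cj hN, inv_inv, hzN, m.conj_s h hK hz hq hq4]

/-- `z dl s q` centralises all members over `s` or moves all of them -/
theorem w_dich : (∀ N ∈ Om, zz N = s → ∀ x ∈ N, x * (z * dl s q) = z * dl s q * x) ∨
    ((∀ N ∈ Om, zz N = s → cj (z * dl s q) N ≠ N) ∧ MM Om s (s * (z * dl s q))) := by
  obtain ⟨N, hN, hzN⟩ := m.exs
  obtain ⟨y, hy, hyq⟩ := m.exists_nc h hK hz hq hq4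
  rcases h.lemX hN (h.hO N hN q⁻¹) (m.zz_cj_q h hK hz hq hq4 hN hzN) (m.w_w h hK hz hq hq4)
    (by rw [hzN]; exact m.s_w h hK hz hq hq4) hK hq hq4 (m.q_w h hK hz hq hq4) hy
    (fun hc => hyq ((m.comm_w_iff h hK hz hq hq4 hy).1 hc)) with h1 | h1
  · left
    intro N₁ hN₁ hz₁
    exact h1 N₁ hN₁ (hz₁.trans hzN.symm)
  · right
    rw [hzN] at h1
    refine ⟨fun N₁ hN₁ hz₁ hc => h1.mz N₁ hN₁ hz₁ ?_, h1⟩
    rw [cj_mul, hc, ← hz₁, mem_normalizer_iff_cj.1 (le_normalizer (h.hyp.zz_mem hN₁))]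

end four

end MM

/-- (tau) for M/M pairs -/
theorem TW.tau_mm (h : TW Om U) (m : MM Om z s) (he : e ≠ 1)
    (hc : ∀ N ∈ Om, zz N = s → ∀ x ∈ N, x * e = e * x) (hK : K ∈ Om) (ht : TT U K s) (hv : v ∈ U K)
    (hv4 : orderOf v = 4) : v * e ≠ e * v := by
  obtain ⟨N, hN, hzN⟩ := m.exs
  have hN' := m.symm.mem_cj_s h.toRW hN
  have hzN' := m.symm.zz_cj_s h.toRW hN hzN
  exact h.tau' he hN hN' (Ne.symm (m.ms N hN hzN)) (by rw [hzN, hzN']) (hc N hN hzN) (hc _ hN' hzN') hK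
    (by rw [hzN]; exact ht) hv hv4

/-- `z dl s v`, `v ∈ U K` of order 4, moves all members over `s` -/
theorem TW.mm_v (h : TW Om U) (m : MM Om z s) (hK : K ∈ Om) (hz : zz K = z) (hv : v ∈ U K) (hv4 : orderOf v = 4) :
    (∀ N ∈ Om, zz N = s → cj (z * dl s v) N ≠ N) ∧ MM Om s (s * (z * dl s v)) := by
  have hvK := h.vch.le K hK hv
  rcases m.w_dich h.toRW hK hz hvK hv4 with h1 | h1
  · exfalso
    exact h.tau_mm m (m.w_ne h.toRW hK hz hvK hv4) h1 hK (m.tt h.toRW hK hz) hv hv4 (m.q_w h.toRW hK hz hvK hv4)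
  · exact h1

/-- **(tau), second form**: `e ≠ 1` centralises all members over `s` and commutes with `q ∈ K` of order 4: `z dl s q`
centralises the members over `s` -/
theorem TW.tau2 (h : TW Om U) (m : MM Om z s) (he : e ≠ 1)
    (hc : ∀ N ∈ Om, zz N = s → ∀ x ∈ N, x * e = e * x) (hK : K ∈ Om) (hz : zz K = z) (hq : q ∈ K)
    (hq4 : orderOf q = 4) (hqe : q * e = e * q) (hN : N ∈ Om) (hzN : zz N = s) :
    ∀ x ∈ N, x * (z * dl s q) = z * dl s q * x := by
  have hM := h.hO N hN q⁻¹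
  have hzM := m.zz_cj_q h.toRW hK hz hq hq4 hN hzN
  rw [hzN] at hzM
  have hw := m.s_w h.toRW hK hz hq hq4
  have hMe : ∀ x ∈ cj q⁻¹ N, x * e = e * x := by
    intro x hx
    rw [mem_cj, inv_inv] at hx
    have h1 := hc N hN hzN _ hx
    have h2 : q⁻¹ * e = e * q⁻¹ := by
      rw [inv_mul_eq_iff_eq_mul, ← mul_assoc, hqe, mul_inv_cancel_right]
    calc x * e = q⁻¹ * (q * x * q⁻¹) * (q * e) := by group
      _ = q⁻¹ * ((q * x * q⁻¹) * e) * q := by rw [hqe]; group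
      _ = (q⁻¹ * e) * (q * x) := by rw [h1]; group
      _ = e * x := by rw [h2]; group
  have hcomm : zz N * zz (cj q⁻¹ N) = zz (cj q⁻¹ N) * zz N := by
    rw [hzN, hzM, mul_assoc, ← hw]
  have ht : ¬ TT U (cj q⁻¹ N) (zz N) := by
    intro ht
    obtain ⟨v, hv, hv4⟩ := h.exists_v hM
    rw [hzN] at ht
    exact h.tau_mm m he hc hM ht hv hv4 (hMe v (h.vch.le _ hM hv))
  intro x hx
  rcases h.comm_of_not_tt hM hN hcomm ht with h1 | h1
  · exfalso
    rw [h1, hzN] at hzM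
    exact m.w_ne h.toRW hK hz hq hq4 (left_eq_mul.1 hzM)
  · have h2 := h1 _ (h.hyp.zz_mem hM) x hx
    rw [hzM] at h2
    have h3 : x * s = s * x := by rw [← hzN]; exact h.hyp.comm_zz hN (le_normalizer hx)
    have h4 : s * (x * (z * dl s q)) = s * (z * dl s q * x) := by
      calc s * (x * (z * dl s q)) = (x * s) * (z * dl s q) := by rw [h3]; group
        _ = x * (s * (z * dl s q)) := by group
        _ = s * (z * dl s q) * x := h2.symm
        _ = s * (z * dl s q * x) := by group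
    exact mul_left_cancel h4

end Cfsg.Agent.Cit.CV1
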