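import Cfsg.Agent.Cit.Nil.CV1.Inherit
import Cfsg.Agent.Cit.Nil.CV1.Local
import Cfsg.Agent.PLocal.SubnormalCore

/-!
# (6b)(CV), rank one, LEMMA T: the nil trick and (tau)

`RW.le_syl` : `O(G) = 1`, `R1 Om ⊤`, `N ≠ N'` over the same involution: `N` lies in every Sylow 2-subgroup.
`RW.nil_comm` : `R1 Om H`, `N ≠ N' ≤ H` over the same involution, `v ∈ U K ⊓ H` of order 4: `[v, zz N] ∈ O(H)`.
`RW.tau` : if moreover `TT U K (zz N)`: contradiction.
-/

set_option autoImplicit false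
set_option linter.style.haveILetI false
set_option linter.unusedSectionVars false

namespace Cfsg.Agent.Cit.CV1

open Subgroup Cfsg Cit Tau CV

variable {G : Type*} [Group G] [Finite G] {Om : Set (Subgroup G)} {U : Subgroup G → Subgroup G}
  {H K L M N N' P S : Subgroup G} {v : G}

/-- `O(G) = 1`, `R1`: two members over the same involution lie in all Sylow 2-subgroups -/
theorem RW.le_syl (w : RW Om U) (hO : OO (⊤ : Subgroup G) = ⊥) (hR : R1 Om ⊤) (hN : N ∈ Om) (hN' : N' ∈ Om)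
    (hne : N ≠ N') (hz : zz N = zz N') (hS : Syl S ⊤) : N ≤ S := by
  haveI : Fact (Nat.Prime 2) := ⟨Nat.prime_two⟩
  have ho : Orth N N' := ⟨hne, fun x hx y hy => w.comm_of_zz_eq hN hN' hz hne hx hy⟩
  set B : Subgroup G := sSup {M | M ∈ Om ∧ Conn Om ⊤ N M} with hB
  have hNB : N ≤ B := le_sSup ⟨hN, .refl⟩
  have hBC : B ≤ centralizer {zz N} := by
    rw [hB, sSup_le_iff]
    rintro M ⟨hM, hNM⟩ x hx
    have h1 : ¬ Conn Om ⊤ M N' := fun h => hR N hN N' hN' le_top le_top ho (hNM.trans h)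
    have h2 := comm_mem_of_not_conn hM le_top hN' le_top h1 hx (w.hyp.zz_mem hN')
    rw [hO, mem_bot, ← hz, mul_inv_eq_one, mul_inv_eq_iff_eq_mul] at h2
    exact mem_centralizer_singleton_iff.2 h2
  have hDB : sSup Om ≤ normalizer (B : Set G) := by
    rw [sSup_le_iff]
    intro M hM
    by_cases hNM : Conn Om ⊤ N M
    · exact (le_sSup ⟨hM, hNM⟩ : M ≤ B).trans le_normalizer
    · have h0 : B ≤ centralizer (M : Set G) := by
        rw [hB, sSup_le_iff]
        rintro L ⟨hL, hNL⟩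
        apply le_centralizer_of_comm
        intro x hx y hy
        have h2 := comm_mem_of_not_conn hM le_top hL le_top (fun h => hNM (hNL.trans h.symm)) hx hy
        rwa [hO, mem_bot, mul_inv_eq_one, mul_inv_eq_iff_eq_mul] at h2
      have h1 : M ≤ centralizer (B : Set G) := by
        intro y hy
        rw [mem_centralizer_iff]
        intro x hx
        exact (mem_centralizer_iff.1 (h0 hx) y hy).symm
      exact h1.trans (centralizer_le_normalizer _)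
  have hBD : B ≤ sSup Om := by
    rw [hB, sSup_le_iff]
    rintro M ⟨hM, -⟩
    exact le_sSup hM
  have hDn : (sSup Om : Subgroup G).Normal :=
    normalizer_eq_top_iff.1 (top_le_iff.1 (sSup_le_normalizer w.hyp.conj))
  have hBs : B.IsSubnormal :=
    IsSubnormal.step _ _ hBD hDn.isSubnormal ((normal_subgroupOf_iff_le_normalizer hBD).2 hDB)
  have hNs : (N.subgroupOf B).IsSubnormal := by
    have h1 := w.hyp.sub N hN
    let f : B →* centralizer {zz N} := inclusion hBC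
    convert h1.comap f using 1
    ext x
    rfl
  have hNn : N.IsSubnormal := IsSubnormal.trans hNB hNs hBs
  have h1 := PLocal.SubnormalCore.le_pCore_of_isSubnormal hNn (w.two N hN)
  have h2 : ¬ 2 ∣ S.index := by
    rw [← relIndex_top_right]
    exact hS.2.2
  exact h1.trans (Lib.Cores.pCore_le_sylow (hS.2.1.toSylow h2))

/-! ### `R1` goes to the quotient by the core -/

section lift

variable {G' : Type*} [Group G'] {f : G →* G'}

theorem adj_of_adj_img (hf : Function.Surjective f) (hK : K ∈ Om) (hL : L ∈ Om)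
    (h : Adj (Cit.img f Om) ⊤ (K.map f) (L.map f)) : Adj Om ⊤ K L := by
  haveI : Finite G' := Finite.of_surjective f hf
  refine ⟨⟨hK, le_top⟩, ⟨hL, le_top⟩, fun h1 => h.2.2 ?_⟩
  rw [← map_commutator]
  have h2 := map_OO_le f (⊤ : Subgroup G)
  rw [map_top_of_surjective f hf] at h2
  exact (Subgroup.map_mono h1).trans h2

theorem conn_of_conn_img (hf : Function.Surjective f) {A' B' : Subgroup G'} (h : Conn (Cit.img f Om) ⊤ A' B') :
    ∀ A ∈ Om, A.map f = A' → ∃ B ∈ Om, B.map f = B' ∧ Conn Om ⊤ A B := by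
  intro A hA hAA
  induction h with
  | refl => exact ⟨A, hA, hAA, .refl⟩
  | @tail B' C' _ h2 ih =>
    obtain ⟨B, hB, rfl, hAB⟩ := ih
    obtain ⟨C, hC, rfl⟩ := h2.2.1.1
    exact ⟨C, hC, rfl, hAB.tail (adj_of_adj_img hf hB hC h2)⟩

/-- `R1` passes to the quotient by (a subgroup of) the core -/
theorem RW.r1_img (w : RW Om U) (hf : Function.Surjective f) (hk : f.ker ≤ OO (⊤ : Subgroup G)) (hR : R1 Om ⊤) :
    R1 (Cit.img f Om) ⊤ := by
  have hker : ¬ 2 ∣ Nat.card f.ker := fun h => odd_OO (⊤ : Subgroup G) (h.trans (card_dvd_of_le hk))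
  rintro _ ⟨K, hK, rfl⟩ _ ⟨L, hL, rfl⟩ - - hKL hcon
  obtain ⟨B, hB, hBL, hKB⟩ := conn_of_conn_img hf hcon K hK rfl
  rw [← hBL] at hKL
  obtain ⟨v, hv, hv4⟩ := w.exists_v hK
  have hc : f v * f (zz B) = f (zz B) * f v :=
    hKL.2 _ ⟨v, w.vch.le K hK hv, rfl⟩ _ ⟨_, w.hyp.zz_mem hB, rfl⟩
  have hv4' : v ^ 2 ^ 2 = 1 := by
    rw [show (2 : ℕ) ^ 2 = 4 by norm_num, ← hv4]; exact pow_orderOf_eq_one v
  obtain ⟨n, hn, hn2⟩ := exists_conj_comm hker (w.hyp.zz_mul hB) hv4' hc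
  rw [← w.hyp.zz_cj hB] at hn2
  have hBn := w.hyp.conj B hB n
  rcases w.comm_of_zz_comm hK hBn hv hv4 hn2 with h1 | h1
  · apply hKL.1
    rw [h1, map_cj_ker hn]
  · have hne : K ≠ cj n B := by
      intro h2
      apply hKL.1
      rw [h2, map_cj_ker hn]
    refine hR K hK _ hBn le_top le_top ⟨hne, h1⟩ (hKB.tail ?_)
    exact (w.adj_conj_core hB le_top (hk hn)).symm

end lift

/-- `R1 Om ⊤`, `N ≠ N'` over the same involution, `P` a 2-group: some conjugate of `N` under `O(G)` generates a 2-group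
with `P` -/
theorem RW.exists_le_two (w : RW Om U) (hR : R1 Om ⊤) (hN : N ∈ Om) (hN' : N' ∈ Om)
    (hne : N ≠ N') (hz : zz N = zz N') (hP : IsPGroup 2 P) :
    ∃ o ∈ OO (⊤ : Subgroup G), ∃ T : Subgroup G, IsPGroup 2 T ∧ P ≤ T ∧ cj o N ≤ T := by
  haveI : Fact (Nat.Prime 2) := ⟨Nat.prime_two⟩
  haveI hOn : (OO (⊤ : Subgroup G)).Normal :=
    normalizer_eq_top_iff.1 (top_le_iff.1 (le_normalizer_OO (⊤ : Subgroup G)))
  set f := QuotientGroup.mk' (OO (⊤ : Subgroup G)) with hfdef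
  have hf : Function.Surjective f := QuotientGroup.mk'_surjective _
  have hk : f.ker = OO (⊤ : Subgroup G) := QuotientGroup.ker_mk' _
  have hker : ¬ 2 ∣ Nat.card f.ker := by rw [hk]; exact odd_OO _
  obtain ⟨T, hT, hPT⟩ := exists_syl_ge hP (le_top : P ≤ ⊤)
  have hTf : Syl (T.map f) ⊤ := by
    have := hT.map (f := f)
    rwa [map_top_of_surjective f hf] at this
  -- the core of the quotient
  have hO' : OO (⊤ : Subgroup (G ⧸ OO (⊤ : Subgroup G))) = ⊥ := by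
    have h1 := comap_OO_le hker (⊤ : Subgroup G)
    rw [map_top_of_surjective f hf, inf_top_eq] at h1
    have h2 := Subgroup.map_mono (f := f) h1
    rw [map_comap_eq_self_of_surjective hf] at h2
    rw [eq_bot_iff]
    refine h2.trans ?_
    rw [map_le_iff_le_comap]
    intro x hx
    rw [mem_comap, mem_bot, ← MonoidHom.mem_ker, hk]
    exact hx
  have hN2 : N.map f ≤ T.map f := by
    have hin : N.map f ≠ N'.map f := by
      intro h
      obtain ⟨n, hn, hn2⟩ := w.exists_cj_of_map_eq hker hN hN' h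
      exact (w.orth_map (f := f) hN (inf_ker_of_odd hker (w.two N hN))
        ⟨hne, fun x hx y hy => w.comm_of_zz_eq hN hN' hz hne hx hy⟩).1 h
    refine (w.img hf hker).le_syl hO' (w.r1_img hf hk.le hR) ⟨N, hN, rfl⟩ ⟨N', hN', rfl⟩ hin ?_ hTf
    rw [zz_map' w.hyp hker hN, zz_map' w.hyp hker hN', hz]
  have hNT : N ≤ OO (⊤ : Subgroup G) ⊔ T := by
    rw [map_le_iff_le_comap, comap_map_eq, hk, sup_comm] at hN2
    exact hN2
  obtain ⟨R, hR', hNR⟩ := exists_syl_ge (w.two N hN) hNT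
  have hTM : Syl T (OO (⊤ : Subgroup G) ⊔ T) := by
    refine ⟨le_sup_right, hT.2.1, fun h => hT.2.2 ?_⟩
    rw [← relIndex_mul_relIndex T (OO (⊤ : Subgroup G) ⊔ T) ⊤ le_sup_right le_top]
    exact h.mul_right _
  obtain ⟨m, hm, hmT⟩ := hTM.exists_conj hR'
  obtain ⟨o, ho, t, ht, rfl⟩ := mem_sup_of_normal_left.1 hm
  rw [cj_mul, mem_normalizer_iff_cj.1 (le_normalizer ht)] at hmT
  refine ⟨o⁻¹, inv_mem ho, T, hT.2.1, hPT, ?_⟩
  rw [← hmT] at hNR
  have h1 := cj_mono o⁻¹ hNR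
  rwa [cj_inv_cj] at h1

/-- the **nil trick** -/
theorem RW.nil_comm (w : RW Om U) (hR : R1 Om H) (hN : N ∈ Om) (hN' : N' ∈ Om) (hNH : N ≤ H) (hNH' : N' ≤ H)
    (hne : N ≠ N') (hz : zz N = zz N') (hK : K ∈ Om) (hv : v ∈ U K) (hv4 : orderOf v = 4) (hvH : v ∈ H) :
    v * zz N * v⁻¹ * (zz N)⁻¹ ∈ OO H := by
  haveI : Fact (Nat.Prime 2) := ⟨Nat.prime_two⟩
  have w' := w.restr H
  have hn1 : N.subgroupOf H ∈ Cit.restr Om H := subgroupOf_mem_restr hN hNH
  have hn2 : N'.subgroupOf H ∈ Cit.restr Om H := subgroupOf_mem_restr hN' hNH'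
  have hv2 : IsPGroup 2 (zpowers v) := (w.two K hK).to_le (zpowers_le.2 (w.vch.le K hK hv))
  have hne' : N.subgroupOf H ≠ N'.subgroupOf H := by
    intro h
    apply hne
    rw [← map_subgroupOf_eq_of_le hNH, h, map_subgroupOf_eq_of_le hNH']
  have hzH : ∀ {N : Subgroup G}, N ∈ Om → N ≤ H → ((zz (N.subgroupOf H) : H) : G) = zz N := by
    intro N hN hNH
    have h1 := zz_map w.hyp (subgroupOf_mem_restr hN hNH)
    rwa [map_subgroupOf_eq_of_le hNH] at h1
  obtain ⟨⟨o, hoH⟩, ho, T, hT, hvT, hNT⟩ := w'.exists_le_two (r1_restr_top.2 hR) hn1 hn2 hne'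
    (Subtype.ext (by rw [hzH hN hNH, hzH hN' hNH', hz])) (P := (zpowers v).subgroupOf H) hv2.comap_subtype
  -- back in `G`
  have ho' : o ∈ OO H := by
    have h1 := OO_map H.subtype H.subtype_injective (⊤ : Subgroup H)
    rw [top_map_subtype] at h1
    rw [h1]
    exact ⟨_, ho, rfl⟩
  have hT' : IsPGroup 2 (T.map H.subtype) := hT.map _
  have hvT' : v ∈ T.map H.subtype := ⟨⟨v, hvH⟩, hvT (mem_zpowers v), rfl⟩
  have hNT' : cj o N ≤ T.map H.subtype := by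
    have h1 := Subgroup.map_mono (f := H.subtype) hNT
    rw [cj_map, map_subgroupOf_eq_of_le hNH] at h1
    exact h1
  have hoN := w.hyp.conj N hN o
  obtain ⟨u, hu, hu4⟩ := w.exists_v hoN
  have hc : v * u = u * v :=
    w.vch.commute w.hyp hT' hK hoN hv hu hv4 hu4 hvT' (hNT' (w.vch.le _ hoN hu))
  have hzo : v * (o * zz N * o⁻¹) = (o * zz N * o⁻¹) * v := by
    rw [← w.hyp.zz_cj hN, ← w.sq_eq hoN hu hu4, ← mul_assoc, hc, mul_assoc, hc, mul_assoc]
  -- modulo `O(H)`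
  set s := zz N with hs
  have hsH : s ∈ H := hNH (w.hyp.zz_mem hN)
  have hnm : ∀ g ∈ H, ∀ x ∈ OO H, g * x * g⁻¹ ∈ OO H := fun g hg x hx =>
    (mem_normalizer_iff.1 (le_normalizer_OO H hg) x).1 hx
  have e : v * s * v⁻¹ * s⁻¹ = (v * o⁻¹ * v⁻¹) * (v * (o * s * o⁻¹) * v⁻¹) * (v * o * v⁻¹) * s⁻¹ := by group
  rw [e, hzo]
  have e2 : (v * o⁻¹ * v⁻¹) * (o * s * o⁻¹ * v * v⁻¹) * (v * o * v⁻¹) * s⁻¹ =
      (v * o⁻¹ * v⁻¹) * o * (s * (o⁻¹ * (v * o * v⁻¹)) * s⁻¹) := by group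
  rw [e2]
  exact mul_mem (mul_mem (hnm v hvH _ (inv_mem ho')) ho')
    (hnm s hsH _ (mul_mem (inv_mem ho') (hnm v hvH _ ho')))

/-- **(tau)** -/
theorem RW.tau (w : RW Om U) (hR : R1 Om H) (hN : N ∈ Om) (hN' : N' ∈ Om) (hNH : N ≤ H) (hNH' : N' ≤ H)
    (hne : N ≠ N') (hz : zz N = zz N') (hK : K ∈ Om) (ht : TT U K (zz N)) (hv : v ∈ U K) (hv4 : orderOf v = 4) :
    v ∉ H := by
  intro hvH
  have h1 := w.nil_comm hR hN hN' hNH hNH' hne hz hK hv hv4 hvH
  obtain ⟨s, hs⟩ : ∃ s, s = zz N := ⟨_, rfl⟩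
  rw [← hs] at h1 ht
  have hss : s * s = 1 := by rw [hs]; exact w.hyp.zz_mul hN
  have hvv : v * v = zz K := w.sq_eq hK hv hv4
  -- `v' = s v s⁻¹` commutes with `v`
  have hK' := w.hyp.conj K hK s
  have hv' : s * v * s⁻¹ ∈ U (cj s K) := w.vch.conj_mem hK hv s
  have hzK' : zz (cj s K) = zz K := by rw [w.hyp.zz_cj hK, ht.1, mul_inv_cancel_right]
  have hc : v * (s * v * s⁻¹) = s * v * s⁻¹ * v := by
    by_cases hKK : cj s K = K
    · rw [hKK] at hv'
      rcases w.eq_or_inv hK hv hv4 hv' (orderOf_conj_four hv4 s) with h2 | h2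
      · rw [h2]
      · rw [h2]; group
    · exact w.comm_of_zz_eq hK hK' hzK'.symm (Ne.symm hKK) (w.vch.le K hK hv) (w.vch.le _ hK' hv')
  have hvs : s * v * s⁻¹ * (s * v * s⁻¹) = zz K := by
    rw [w.sq_eq hK' hv' (orderOf_conj_four hv4 s), hzK']
  have e : v * s * v⁻¹ * s⁻¹ = v * (s * v * s⁻¹)⁻¹ := by group
  rw [e] at h1
  have h2 : v * (s * v * s⁻¹)⁻¹ * (v * (s * v * s⁻¹)⁻¹) = 1 := by
    have hc' : Commute v (s * v * s⁻¹) := hc
    have h3 : (s * v * s⁻¹)⁻¹ * v = v * (s * v * s⁻¹)⁻¹ := (hc'.inv_right).eq.symm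
    calc v * (s * v * s⁻¹)⁻¹ * (v * (s * v * s⁻¹)⁻¹) = v * ((s * v * s⁻¹)⁻¹ * v) * (s * v * s⁻¹)⁻¹ := by group
      _ = v * v * (s * v * s⁻¹ * (s * v * s⁻¹))⁻¹ := by rw [h3]; group
      _ = 1 := by rw [hvs, hvv, mul_inv_cancel]
  have h3 := eq_one_of_odd (odd_OO H) h1 (a := 1) (by rw [pow_one, pow_two]; exact h2)
  obtain ⟨-, v₀, hv₀, hv₀4, hne₀⟩ := ht
  rw [mul_inv_eq_one] at h3
  have h4 : s * v = v * s := by
    rw [← mul_inv_eq_iff_eq_mul]
    exact h3.symm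
  apply hne₀
  rcases w.eq_or_inv hK hv hv4 hv₀ hv₀4 with rfl | rfl
  · exact h4
  · exact (Commute.inv_right (show Commute s v from h4)).eq

end Cfsg.Agent.Cit.CV1
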