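import Cfsg.Agent.Cit.Nil.CV1.LemT.Count

/-!
# (6b)(CV), rank one, LEMMA T: two members over `z` and over `s`, part A

`M2 Om z s K N` : `K, K^s` are the members over `z`, `N, N^z` those over `s`.
`M2.cent` : an element commuting with `z` and `s` commutes with `dl s v`, `v ∈ U K` of order 4.
`TW.fix` : `dl s q` normalises `N`, `TW.f5`, `TW.f6`, `TW.final`.
-/

set_option autoImplicit false
set_option linter.style.haveILetI false
set_option linter.unusedSectionVars false

namespace Cfsg.Agent.Cit.CV1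

open Subgroup Cfsg Cit Tau CV

variable {G : Type*} [Group G] {Om : Set (Subgroup G)} {U : Subgroup G → Subgroup G}
  {H K K' L M N N' P S : Subgroup G} {a b e g p q r s t u v w x y z : G}

/-- `g` acts on `N` trivially modulo `s` -/
def TM (s : G) (N : Subgroup G) (g : G) : Prop :=
  g * s = s * g ∧ ∀ p ∈ N, g * p * g⁻¹ = p ∨ g * p * g⁻¹ = p * s

theorem TM.mul (hss : s * s = 1) (hg : TM s N g) (he : TM s N e) : TM s N (g * e) := by
  refine ⟨by rw [mul_assoc, he.1, ← mul_assoc, hg.1, mul_assoc], fun p hp => ?_⟩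
  have h1 : g * s * g⁻¹ = s := by rw [hg.1, mul_inv_cancel_right]
  have h2 : g * e * p * (g * e)⁻¹ = g * (e * p * e⁻¹) * g⁻¹ := by group
  rw [h2]
  rcases he.2 p hp with h3 | h3
  · rw [h3]
    exact hg.2 p hp
  · rw [h3]
    have h4 : g * (p * s) * g⁻¹ = (g * p * g⁻¹) * (g * s * g⁻¹) := by group
    rw [h4, h1]
    rcases hg.2 p hp with h5 | h5
    · right; rw [h5]
    · left; rw [h5, mul_assoc, hss, mul_one]

theorem TM.inv (hss : s * s = 1) (hg : TM s N g) : TM s N g⁻¹ := by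
  have h1 : Commute g s := hg.1
  refine ⟨h1.inv_left.eq, fun p hp => ?_⟩
  rcases hg.2 p hp with h3 | h3
  · left
    calc g⁻¹ * p * g⁻¹⁻¹ = g⁻¹ * (g * p * g⁻¹) * g := by rw [h3]; group
      _ = p := by group
  · right
    have h4 : g⁻¹ * (p * s) * g = p := by rw [← h3]; group
    have h5 : s * g = g * s := hg.1.symm
    calc g⁻¹ * p * g⁻¹⁻¹ = g⁻¹ * p * g * (s * s) := by rw [hss]; group
      _ = g⁻¹ * p * (g * s) * s := by group
      _ = g⁻¹ * (p * s) * g * s := by rw [← h5]; group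
      _ = p * s := by rw [h4]

/-- the square acts trivially -/
theorem TM.sq (hss : s * s = 1) (hg : TM s N g) (hp : p ∈ N) : g * g * p = p * (g * g) := by
  have h1 : g * s * g⁻¹ = s := by rw [hg.1, mul_inv_cancel_right]
  have h2 : g * g * p * (g * g)⁻¹ = g * (g * p * g⁻¹) * g⁻¹ := by group
  rw [← mul_inv_eq_iff_eq_mul, h2]
  rcases hg.2 p hp with h3 | h3
  · rw [h3, h3]
  · have h4 : g * (p * s) * g⁻¹ = (g * p * g⁻¹) * (g * s * g⁻¹) := by group
    rw [h3, h4, h1, h3, mul_assoc, hss, mul_one]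

set_option linter.unusedSimpArgs false in
set_option linter.unusedVariables false in
/-- the final computation -/
theorem comp_rel (zz' : z * z = 1) (ss : s * s = 1) (aa : a * a = 1) (bb : b * b = 1)
    (sz : s * z = z * s) (az : a * z = z * a) (bz : b * z = z * b) (as' : a * s = s * a) (bs : b * s = s * b)
    (ba : b * a = a * b)
    (us : u * s = s * u) (uz : u * z = z * s * a * u) (ua : u * a = a * u) (ub : u * b = s * b * u)
    (qz : q * z = z * q) (qs : q * s = z * s * a * q) (qa : q * a = a * q) (qb : q * b = z * b * q)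
    (rz : r * z = z * r) (rs : r * s = z * s * b * r) (ra : r * a = z * a * r) (rb : r * b = b * r) :
    (u * (q * r) * u * r * u⁻¹) * z = z * (u * (q * r) * u * r * u⁻¹) ∧
    (u * (q * r) * u * r * u⁻¹) * s = s * (u * (q * r) * u * r * u⁻¹) ∧
    (u * (q * r) * u * r * u⁻¹) * a = a * b * (u * (q * r) * u * r * u⁻¹) ∧
    (u * (q * r) * u * r * u⁻¹) * b = a * (u * (q * r) * u * r * u⁻¹) := by
  have lift : ∀ {x y X : G}, x * y = X → ∀ w, x * (y * w) = X * w := fun h w => by rw [← mul_assoc, h]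
  have ius : u⁻¹ * s = s * u⁻¹ := (Commute.inv_left (show Commute u s from us)).eq
  have iua : u⁻¹ * a = a * u⁻¹ := (Commute.inv_left (show Commute u a from ua)).eq
  have iub : u⁻¹ * b = s * b * u⁻¹ := by
    rw [inv_mul_eq_iff_eq_mul]
    have : u * (s * b * u⁻¹) = (u * s) * b * u⁻¹ := by group
    rw [this, us]
    have : s * u * b * u⁻¹ = s * (u * b) * u⁻¹ := by group
    rw [this, ub]
    have : s * (s * b * u) * u⁻¹ = (s * s) * b := by group
    rw [this, ss, one_mul]
  have iuz : u⁻¹ * z = z * s * a * u⁻¹ := by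
    rw [inv_mul_eq_iff_eq_mul]
    have h1 : u * (z * s * a * u⁻¹) = (u * z) * s * a * u⁻¹ := by group
    rw [h1, uz]
    have h2 : z * s * a * u * s * a * u⁻¹ = z * s * a * (u * s) * a * u⁻¹ := by group
    rw [h2, us]
    have h3 : z * s * a * (s * u) * a * u⁻¹ = z * s * (a * s) * (u * a) * u⁻¹ := by group
    rw [h3, ua, as']
    have h4 : z * s * (s * a) * (a * u) * u⁻¹ = z * (s * s) * (a * a) := by group
    rw [h4, ss, aa, mul_one, mul_one]
  refine ⟨?_, ?_, ?_, ?_⟩ <;>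
  simp only [mul_assoc] at * <;>
  simp only [mul_assoc, iuz, ius, iua, iub, us, uz, ua, ub, qz, qs, qa, qb, rz, rs, ra, rb, lift us, lift uz, lift ua,
    lift ub, lift qz, lift qs, lift qa, lift qb, lift rz, lift rs, lift ra, lift rb, zz', ss, aa, bb, lift zz', lift ss,
    lift aa, lift bb, sz, az, bz, as', bs, ba, lift sz, lift az, lift bz, lift as', lift bs, lift ba, one_mul]

variable [Finite G]

/-- `g` commuting with `z` permutes `K`, `K^s` -/
theorem M2.act (h : RW Om U) (m : M2 Om z s K N) (hz : g * z = z * g) : cj g K = K ∨ cj g K = cj s K :=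
  m.aK _ (h.hO K m.hK g) (by rw [h.hyp.zz_cj m.hK, m.zK, hz, mul_inv_cancel_right])

theorem M2.act' (h : RW Om U) (m : M2 Om z s K N) (hs : g * s = s * g) : cj g N = N ∨ cj g N = cj z N :=
  m.symm.act h hs

theorem M2.cent_aux (h : RW Om U) (m : M2 Om z s K N) (hv : v ∈ U K) (hv4 : orderOf v = 4) (hs : g * s = s * g)
    (hg : cj g K = K) : g * dl s v = dl s v * g := by
  have h1 : Commute g s := hs
  rw [← mul_inv_eq_iff_eq_mul]
  have hvK := h.vch.le K m.hK hv
  have h2 : g * dl s v * g⁻¹ = dl s (g * v * g⁻¹) := by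
    rw [dl, dl]
    have e1 : g * (v * (s * v * s⁻¹)) * g⁻¹ = (g * v * g⁻¹) * ((g * s) * v * (g * s)⁻¹) := by group
    have e2 : (g * s) * v * (g * s)⁻¹ = s * (g * v * g⁻¹) * s⁻¹ := by rw [hs]; group
    rw [e1, e2]
  rw [h2]
  rcases h.conj_or m.hK (mem_normalizer_iff_cj.2 hg) hv hv4 with h3 | h3
  · rw [h3]
  · rw [h3]
    have h4 := m.dl_mul h m.hK m.zK hvK (K.inv_mem hvK)
    rw [mul_inv_cancel, m.dl_one h] at h4
    have h5 := m.dl_dl h m.hK m.zK hvK hv4
    rw [eq_comm] at h4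
    rw [← h5] at h4
    exact mul_left_cancel h4

/-- an element commuting with `z` and `s` commutes with `dl s v` -/
theorem M2.cent (h : RW Om U) (m : M2 Om z s K N) (hv : v ∈ U K) (hv4 : orderOf v = 4) (hz : g * z = z * g)
    (hs : g * s = s * g) : g * dl s v = dl s v * g := by
  have hvK := h.vch.le K m.hK hv
  rcases m.act h hz with h1 | h1
  · exact m.cent_aux h hv hv4 hs h1
  · have h2 : cj (s * g) K = K := by rw [cj_mul, h1, ← cj_mul, m.ss h, cj_one]
    have h3 : s * g * s = s * (s * g) := by rw [mul_assoc, hs]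
    have h4 := m.cent_aux h hv hv4 h3 h2
    have h5 := m.s_dl h m.hK m.zK hvK
    have h6 : s * (g * dl s v) = s * (dl s v * g) := by
      rw [← mul_assoc, h4, ← mul_assoc, ← h5, mul_assoc]
    exact mul_left_cancel h6

theorem dl_inv_four (h : RW Om U) (m : MM Om z s) (hK : K ∈ Om) (hz : zz K = z) (hq : q ∈ K) (hq4 : orderOf q = 4) :
    (dl s q)⁻¹ = dl s q := inv_eq_of_mul_eq_one_right (m.dl_dl h hK hz hq hq4)

theorem dl_inv (h : RW Om U) (m : MM Om z s) (hK : K ∈ Om) (hz : zz K = z) (hq : q ∈ K) :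
    dl s q⁻¹ = (dl s q)⁻¹ := by
  have h4 := m.dl_mul h hK hz (K.inv_mem hq) hq
  rw [inv_mul_cancel, m.dl_one h] at h4
  exact eq_inv_of_mul_eq_one_left h4.symm

/-- `dl s q` normalises `N` or exchanges `N`, `N^z` -/
theorem M2.dl_or (h : RW Om U) (m : M2 Om z s K N) (hq : q ∈ K) : cj (dl s q) N = N ∨ cj (dl s q) N = cj z N :=
  m.act' h (m.s_dl h m.hK m.zK hq).symm

theorem M2.zcj (h : RW Om U) (m : M2 Om z s K N) (L : Subgroup G) : cj z (cj z L) = L := by
  rw [← cj_mul, m.zz' h, cj_one]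

/-- if `dl s q` moves `N` then `z dl s q` centralises the members over `s` -/
theorem M2.cent_of_move (h : RW Om U) (m : M2 Om z s K N) (hq : q ∈ K) (hq4 : orderOf q = 4)
    (hc : cj (dl s q) N = cj z N) : ∀ N ∈ Om, zz N = s → ∀ x ∈ N, x * (z * dl s q) = z * dl s q * x := by
  rcases m.w_dich h m.hK m.zK hq hq4 with h1 | h1
  · exact h1
  · exfalso
    apply h1.1 N m.hN m.zN
    rw [cj_mul, hc, m.zcj h]

/-- `dl s q`, `q ∈ K`, normalises `N` -/
theorem TW.fix (h : TW Om U) (m : M2 Om z s K N) (hq : q ∈ K) : cj (dl s q) N = N := by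
  have hK := m.hK
  obtain ⟨v, hv, hv4⟩ := h.exists_v hK
  have hvK := h.vch.le K hK hv
  have hvX := h.U_le_XX hK hv
  have key : ∀ y ∈ K, y ∉ XX U K → cj (dl s y) N = N := by
    intro y hy hyX
    rcases m.dl_or h.toRW hy with h1 | h1
    · exact h1
    · exfalso
      have hy4 := (h.y_facts hK hy hyX).2.1
      have hvyX : v * y ∉ XX U K := fun hh => hyX (by
        have := (XX U K).mul_mem ((XX U K).inv_mem hvX) hh
        rwa [inv_mul_cancel_left] at this)
      have hvy := K.mul_mem hvK hy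
      have hvy4 := (h.y_facts hK hvy hvyX).2.1
      have h2 := m.cent_of_move h.toRW hy hy4 h1
      have hd := m.dl_mul h.toRW hK m.zK hvK hy
      have hfv : cj (dl s v) N = N := by
        rcases m.dl_or h.toRW hvK with h3 | h3
        · exact h3
        · exfalso
          apply (h.mm_v m.toMM hK m.zK hv hv4).1 N m.hN m.zN
          rw [cj_mul, h3, m.zcj h.toRW]
      have hzv := m.z_dl h.toRW hK m.zK hvK
      have hzy := m.z_dl h.toRW hK m.zK hy
      have h3 : cj (dl s (v * y)) N = cj z N := by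
        rw [hd, cj_mul, h1, ← cj_mul, ← hzv, cj_mul, hfv]
      have h4 := m.cent_of_move h.toRW hvy hvy4 h3
      have h5 : dl s v = (z * dl s (v * y)) * (z * dl s y) := by
        rw [hd]
        symm
        calc z * (dl s v * dl s y) * (z * dl s y) = z * dl s v * (dl s y * z) * dl s y := by group
          _ = z * (dl s v * z) * (dl s y * dl s y) := by rw [← hzy]; group
          _ = dl s v := by
            rw [← hzv, m.dl_dl h.toRW hK m.zK hy hy4, mul_one, ← mul_assoc, m.zz' h.toRW, one_mul]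
      refine h.tau_mm m.toMM (m.dl_ne h.toRW hK m.zK hvK hv4) ?_ hK (m.tt h.toRW hK m.zK) hv hv4
        (m.q_dl h.toRW hK m.zK hvK hv4)
      intro N₁ hN₁ hz₁ x hx
      rw [h5, ← mul_assoc, h4 N₁ hN₁ hz₁ x hx, mul_assoc, h2 N₁ hN₁ hz₁ x hx, ← mul_assoc]
  by_cases hqX : q ∈ XX U K
  · obtain ⟨y, hy, hyX⟩ := h.exists_y hK
    have hqy : q * y ∉ XX U K := fun hh => hyX (by
        have := (XX U K).mul_mem ((XX U K).inv_mem hqX) hh
        rwa [inv_mul_cancel_left] at this)
    have h1 := key y hy hyX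
    have h2 := key _ (K.mul_mem hq hy) hqy
    rwa [m.dl_mul h.toRW hK m.zK hq hy, cj_mul, h1] at h2
  · exact key q hq hqX

/-- `z dl s q` moves `N` -/
theorem TW.mv (h : TW Om U) (m : M2 Om z s K N) (hq : q ∈ K) : cj (z * dl s q) N ≠ N := by
  rw [cj_mul, h.fix m hq]
  exact m.ms N m.hN m.zN

/-- `r ∈ N` with `dl z r = 1` -/
theorem M2.of_dl_eq (h : RW Om U) (m : M2 Om z s K N) (hr : r ∈ N) (h1 : dl z r = 1) : r = 1 ∨ r = s := by
  have hN := m.hN
  have hc : ∀ p ∈ N, p * r = r * p := by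
    intro p hp
    rw [← m.symm.comm_dl_iff h hN m.zN hr hp, h1, mul_one, one_mul]
  have hrX : r ∈ XX U N := by
    obtain ⟨u, hu, hu4⟩ := h.exists_v hN
    exact (h.mem_XX_iff hN hu hu4 hr).2 (hc u (h.vch.le N hN hu)).symm
  obtain ⟨y, hy, hyX⟩ := h.exists_y hN
  have h2 := (h.y_facts hN hy hyX).2.2 r hrX
  rw [hc y hy, mul_inv_cancel_right] at h2
  by_cases hr1 : r = 1
  · exact Or.inl hr1
  · right
    have h3 : r * r = 1 := by nth_rw 2 [h2]; exact mul_inv_cancel r
    rw [h.hyp.uniq N hN r hr (orderOf_eq_prime (by rw [pow_two]; exact h3) hr1), m.zN]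

/-- an element `g` normalising `N` and commuting with `dl z p`, `p ∈ N` and with `s` acts trivially modulo `s` -/
theorem M2.tm_of (h : RW Om U) (m : M2 Om z s K N) (hgN : cj g N = N) (hs : g * s = s * g) (hz : g * z = z * g)
    (hc : ∀ p ∈ N, g * dl z p = dl z p * g) : TM s N g := by
  refine ⟨hs, fun p hp => ?_⟩
  have h1 : g * p * g⁻¹ ∈ N := by
    have := conj_mem_cj (g := g) hp
    rwa [hgN] at this
  have h2 : dl z (g * p * g⁻¹) = dl z p := by
    have e2 : dl z (g * p * g⁻¹) = g * dl z p * g⁻¹ := by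
      rw [dl, dl]
      have e1 : g * (p * (z * p * z⁻¹)) * g⁻¹ = (g * p * g⁻¹) * ((g * z) * p * (g * z)⁻¹) := by group
      have e3 : (g * z) * p * (g * z)⁻¹ = z * (g * p * g⁻¹) * z⁻¹ := by rw [hz]; group
      rw [e1, e3]
    rw [e2, hc p hp, mul_inv_cancel_right]
  have h3 : dl z (p⁻¹ * (g * p * g⁻¹)) = 1 := by
    rw [m.symm.dl_mul h m.hN m.zN (N.inv_mem hp) h1, h2, dl_inv h m.symm.toMM m.hN m.zN hp, inv_mul_cancel]
  rcases m.of_dl_eq h (N.mul_mem (N.inv_mem hp) h1) h3 with h4 | h4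
  · left; exact (inv_mul_eq_one.1 h4).symm
  · right; exact inv_mul_eq_iff_eq_mul.1 h4

/-- **(F5)** -/
theorem TW.f5 (h : TW Om U) (m : M2 Om z s K N) (hv : v ∈ U K) (hv4 : orderOf v = 4) : TM s N (dl s v) := by
  have hvK := h.vch.le K m.hK hv
  refine m.tm_of h.toRW (h.fix m hvK) (m.s_dl h.toRW m.hK m.zK hvK).symm (m.z_dl h.toRW m.hK m.zK hvK).symm ?_
  intro p hp
  exact (m.cent h.toRW hv hv4 (m.symm.s_dl h.toRW m.hN m.zN hp).symm (m.symm.z_dl h.toRW m.hN m.zN hp).symm).symm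

/-- elements trivial modulo `s` commute with an element of order 4 -/
theorem RW.exists_comm_four (h : RW Om U) (hN : N ∈ Om) (hzN : zz N = s) (ht : TM s N g) :
    ∃ p ∈ N, orderOf p = 4 ∧ g * p = p * g := by
  obtain ⟨u, hu, hu4⟩ := h.exists_v hN
  have huN := h.vch.le N hN hu
  obtain ⟨y, hy, hyX⟩ := h.exists_y hN
  have hy4 := (h.y_facts hN hy hyX).2.1
  have huyX : u * y ∉ XX U N := fun hh => hyX (by
    have := (XX U N).mul_mem ((XX U N).inv_mem (h.U_le_XX hN hu)) hh
    rwa [inv_mul_cancel_left] at this)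
  have huy := N.mul_mem huN hy
  have huy4 := (h.y_facts hN huy huyX).2.1
  rcases ht.2 u huN with h1 | h1
  · exact ⟨u, huN, hu4, mul_inv_eq_iff_eq_mul.1 h1⟩
  · rcases ht.2 y hy with h2 | h2
    · exact ⟨y, hy, hy4, mul_inv_eq_iff_eq_mul.1 h2⟩
    · refine ⟨u * y, huy, huy4, ?_⟩
      rw [← mul_inv_eq_iff_eq_mul]
      have h3 : y * s = s * y := by rw [← hzN]; exact h.hyp.comm_zz hN (le_normalizer hy)
      have h4 : s * s = 1 := by rw [← hzN]; exact h.hyp.zz_mul hN
      calc g * (u * y) * g⁻¹ = (g * u * g⁻¹) * (g * y * g⁻¹) := by group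
        _ = u * s * (s * y) := by rw [h1, h2, h3]
        _ = u * (s * s) * y := by group
        _ = u * y := by rw [h4, mul_one]

/-- **(F6)** -/
theorem TW.f6 (h : TW Om U) (m : M2 Om z s K N) (he : e ≠ 1) (hc : ∀ p ∈ N, p * e = e * p) (hze : z * e = e * z)
    (hq : q ∈ K) (hq4 : orderOf q = 4) : q * e ≠ e * q := by
  intro hqe
  have hc' : ∀ N ∈ Om, zz N = s → ∀ x ∈ N, x * e = e * x := by
    intro L hL hzL x hx
    rcases m.aN L hL hzL with rfl | rfl
    · exact hc x hx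
    · rw [mem_cj] at hx
      have h1 := hc _ hx
      have h2 : Commute z e := hze
      have h3 : x = z * (z⁻¹ * x * z) * z⁻¹ := by group
      have h4 : Commute (z⁻¹ * x * z) e := h1
      have h5 : Commute x e := by
        rw [h3]
        exact (h2.mul_left h4).mul_left h2.inv_left
      exact h5.eq
  have h1 := h.tau2 m.toMM he hc' m.hK m.zK hq hq4 hqe m.hN m.zN
  apply h.mv m hq
  rw [← mem_normalizer_iff_cj]
  exact mem_normalizer_of_comm fun k hk => (h1 k hk).symm

/-- `dl s q` does not centralise `N` -/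
theorem TW.f6' (h : TW Om U) (m : M2 Om z s K N) (hq : q ∈ K) (hq4 : orderOf q = 4) :
    ¬ ∀ p ∈ N, p * dl s q = dl s q * p := fun hc =>
  h.f6 m (m.dl_ne h.toRW m.hK m.zK hq hq4) hc (m.z_dl h.toRW m.hK m.zK hq) hq hq4
    (m.q_dl h.toRW m.hK m.zK hq hq4)

/-- the end -/
theorem TW.final (h : TW Om U) (m : M2 Om z s K N) (hu : u ∈ N) (hu4 : orderOf u = 4) (hq : q ∈ K)
    (hq4 : orderOf q = 4) (hr : r ∈ K) (hr4 : orderOf r = 4) (hqr : q * r * q⁻¹ = r⁻¹) (hrq : r * q * r⁻¹ = q⁻¹)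
    (hqr4 : orderOf (q * r) = 4) (ha : dl s q = dl z u) (hb : u * dl s r * u⁻¹ = dl s r * s)
    (hv : q ∈ U K ∨ r ∈ U K) : False := by
  have hK := m.hK
  have hN := m.hN
  have hzs := m.comm
  have m' := m.symm.toMM
  have az := m.z_dl h.toRW hK m.zK hq
  have bz := m.z_dl h.toRW hK m.zK hr
  have as' := m.s_dl h.toRW hK m.zK hq
  have bs := m.s_dl h.toRW hK m.zK hr
  have aa := m.dl_dl h.toRW hK m.zK hq hq4
  have bb := m.dl_dl h.toRW hK m.zK hr hr4
  have hqrK := K.mul_mem hq hr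
  have dqr := m.dl_mul h.toRW hK m.zK hq hr
  have drq := m.dl_mul h.toRW hK m.zK hr hq
  have ba : dl s r * dl s q = dl s q * dl s r := by
    have h1 : r * q = q⁻¹ * r := by rw [← hrq]; group
    rw [← drq, h1, m.dl_mul h.toRW hK m.zK (K.inv_mem hq) hr, dl_inv h.toRW m.toMM hK m.zK hq,
      dl_inv_four h.toRW m.toMM hK m.zK hq hq4]
  have us : u * s = s * u := m'.z_comm h.toRW hN m.zN hu
  have uz : u * z = z * s * dl s q * u := by
    have h1 := m'.conj_s' h.toRW hN m.zN hu hu4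
    rw [mul_inv_eq_iff_eq_mul, ← ha, ← mul_assoc] at h1
    exact h1
  have ua : u * dl s q = dl s q * u := by rw [ha]; exact m'.q_dl h.toRW hN m.zN hu hu4
  have ub : u * dl s r = s * dl s r * u := by
    rw [mul_inv_eq_iff_eq_mul] at hb
    rw [hb, bs]
  have qz : q * z = z * q := m.z_comm h.toRW hK m.zK hq
  have rz : r * z = z * r := m.z_comm h.toRW hK m.zK hr
  have qs : q * s = z * s * dl s q * q := by
    have h1 := m.conj_s' h.toRW hK m.zK hq hq4
    rw [mul_inv_eq_iff_eq_mul, ← mul_assoc, ← hzs] at h1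
    exact h1
  have rs : r * s = z * s * dl s r * r := by
    have h1 := m.conj_s' h.toRW hK m.zK hr hr4
    rw [mul_inv_eq_iff_eq_mul, ← mul_assoc, ← hzs] at h1
    exact h1
  have qa := m.q_dl h.toRW hK m.zK hq hq4
  have rb := m.q_dl h.toRW hK m.zK hr hr4
  have qq := m.qq h.toRW hK m.zK hq hq4
  have rr := m.qq h.toRW hK m.zK hr hr4
  have hinv : ∀ {x : G}, x ∈ K → x * x = z → x⁻¹ = z * x := by
    intro x hx hxx
    rw [inv_eq_iff_mul_eq_one, ← mul_assoc, m.z_comm h.toRW hK m.zK hx, mul_assoc, hxx]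
    exact m.zz' h.toRW
  have qb : q * dl s r = z * dl s r * q := by
    have h1 := m.conj_dl h.toRW hK m.zK hr hq
    rw [hqr, hinv hr rr, mul_inv_eq_iff_eq_mul] at h1
    rw [h1, dl]
    group
  have ra : r * dl s q = z * dl s q * r := by
    have h1 := m.conj_dl h.toRW hK m.zK hq hr
    rw [hrq, hinv hq qq, mul_inv_eq_iff_eq_mul] at h1
    rw [h1, dl]
    group
  obtain ⟨c1, c2, c3, c4⟩ := comp_rel (m.zz' h.toRW) (m.ss h.toRW) aa bb hzs.symm az.symm bz.symm as'.symm bs.symm ba us uz ua ub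
    qz qs qa qb rz rs ra rb
  rcases hv with hv | hv
  · have h1 := m.cent h.toRW hv hq4 c1 c2
    rw [c3] at h1
    have h2 := mul_right_cancel h1
    exact m.dl_ne h.toRW hK m.zK hr hr4 (mul_eq_left.1 h2)
  · have h1 := m.cent h.toRW hv hr4 c1 c2
    rw [c4] at h1
    have h2 := mul_right_cancel h1
    apply m.dl_ne h.toRW hK m.zK hqrK hqr4
    rw [dqr, h2, bb]

end Cfsg.Agent.Cit.CV1
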