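import Cfsg.Agent.Cit.Nil.CV1.LemT.TwoA

/-!
# (6b)(CV), rank one, LEMMA T: two members over `z` and over `s`, part B: the contradiction

`TW.eq_of_comm` : if `dl s v` commutes with `X_N` then `dl s v = dl z u`.
`TW.exists_q1`, `TW.case_one`; `TW.comm_or_eight`; `TW.m2_false`.
-/

set_option autoImplicit false
set_option linter.style.haveILetI false
set_option linter.unusedSectionVars false

namespace Cfsg.Agent.Cit.CV1

open Subgroup Cfsg Cit Tau CV Cfsg.Agent.Cit.Nil.CV.XLevel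

variable {G : Type*} [Group G] [Finite G] {Om : Set (Subgroup G)} {U : Subgroup G → Subgroup G}
  {H K K' L M N N' P S : Subgroup G} {a b c d e g p q r s t u v w x y z : G}

/-! ### members -/

namespace RW

variable (h : RW Om U)
include h

theorem v_y (hK : K ∈ Om) (hv : v ∈ U K) (hv4 : orderOf v = 4) (hy : y ∈ K) (hyX : y ∉ XX U K) :
    v * y * v⁻¹ = y * zz K := by
  have h1 := h.y_inv hK hy hyX hv
  have h2 : v * y = y * v⁻¹ := by
    rw [mul_inv_eq_iff_eq_mul] at h1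
    calc v * y = v * (y * v) * v⁻¹ := by group
      _ = y * v⁻¹ := by rw [h1]; group
  have h3 : v⁻¹ * v⁻¹ = zz K := by
    have : v⁻¹ * v⁻¹ = (v * v)⁻¹ := by group
    rw [this, h.sq_eq hK hv hv4, h.zz_inv' hK]
  rw [h2, mul_assoc, h3]

theorem y_zz (hK : K ∈ Om) (hy : y ∈ K) (hyX : y ∉ XX U K) : y * zz K = y⁻¹ := by
  have h1 := (h.y_facts hK hy hyX).1
  rw [eq_inv_iff_mul_eq_one, mul_assoc]
  have h2 : y * zz K = zz K * y := h.hyp.comm_zz hK (le_normalizer hy)
  rw [← h2, ← mul_assoc, h1]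
  exact h.hyp.zz_mul hK

theorem mul_not_mem (hx : x ∈ XX U K) (hyX : y ∉ XX U K) : x * y ∉ XX U K := fun hh => hyX (by
  have := (XX U K).mul_mem ((XX U K).inv_mem hx) hh
  rwa [inv_mul_cancel_left] at this)

theorem mul_not_mem' (hx : x ∈ XX U K) (hyX : y ∉ XX U K) : y * x ∉ XX U K := fun hh => hyX (by
  have := (XX U K).mul_mem hh ((XX U K).inv_mem hx)
  rwa [mul_inv_cancel_right] at this)

/-- an element commuting with `X_N` and an element outside -/
theorem comm_of (hN : N ∈ Om) (hX : ∀ x ∈ XX U N, g * x = x * g) (hy : y ∈ N) (hyX : y ∉ XX U N)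
    (hc : g * y = y * g) (hp : p ∈ N) : g * p = p * g := by
  by_cases hpX : p ∈ XX U N
  · exact hX p hpX
  · have h1 := hX _ (inv_mul_mem_XX h.vch hN hy hp hyX hpX)
    have h2 : p = y * (y⁻¹ * p) := by group
    have h3 : Commute g (y * (y⁻¹ * p)) := (show Commute g y from hc).mul_right h1
    rw [← h2] at h3
    exact h3.eq

/-- the elements of `U N` -/
theorem mem_four (hN : N ∈ Om) (hu : u ∈ U N) (hu4 : orderOf u = 4) (hx : x ∈ U N) :
    x = 1 ∨ x = u ∨ x = zz N ∨ x = u⁻¹ := by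
  obtain ⟨n, rfl⟩ := h.exists_pw_U hN hu hu4 hx
  have h2 := h.pw_two_eq hN hu hu4
  have h3 : pw u 3 = u⁻¹ := pw_neg_one hu4
  fin_cases n
  · left; exact pw_zero
  · right; left; exact pw_one
  · right; right; left; exact h2
  · right; right; right; exact h3

theorem tm_of_gen (hN : N ∈ Om) (hzN : zz N = s) (hs : g * s = s * g)
    (hX : ∀ x ∈ XX U N, g * x * g⁻¹ = x ∨ g * x * g⁻¹ = x * s) (hy : y ∈ N) (hyX : y ∉ XX U N)
    (hyg : g * y * g⁻¹ = y ∨ g * y * g⁻¹ = y * s) : TM s N g := by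
  refine ⟨hs, fun p hp => ?_⟩
  by_cases hpX : p ∈ XX U N
  · exact hX p hpX
  · obtain ⟨x, hx⟩ : ∃ x, x = y⁻¹ * p := ⟨_, rfl⟩
    have h1 : x ∈ XX U N := by rw [hx]; exact inv_mul_mem_XX h.vch hN hy hp hyX hpX
    have h2 : p = y * x := by rw [hx]; group
    have h3 : s * x = x * s := by
      rw [← hzN]; exact (h.hyp.comm_zz hN (le_normalizer (XX_le N h1))).symm
    have h4 : s * s = 1 := by rw [← hzN]; exact h.hyp.zz_mul hN
    have h5 : g * p * g⁻¹ = (g * y * g⁻¹) * (g * x * g⁻¹) := by rw [h2]; group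
    rw [h5, h2]
    rcases hX x h1 with h6 | h6 <;> rcases hyg with h7 | h7 <;> rw [h6, h7]
    · exact Or.inl rfl
    · right; rw [mul_assoc, h3, mul_assoc]
    · right; rw [mul_assoc]
    · left
      calc y * s * (x * s) = y * (s * x) * s := by group
        _ = y * x * (s * s) := by rw [h3]; group
        _ = y * x := by rw [h4, mul_one]

/-- an involution normalising `N`, centralising `V_N`, acts trivially modulo `s` -/
theorem inv_tm (hN : N ∈ Om) (hzN : zz N = s) (hs : d * s = s * d) (hdd : d * d = 1) (hdN : cj d N = N)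
    (hu : u ∈ U N) (hu4 : orderOf u = 4) (hdu : d * u = u * d) : TM s N d := by
  have hdn := mem_normalizer_iff_cj.2 hdN
  have hdX := le_normalizer_XX h.vch hN hdn
  have hss : s * s = 1 := by rw [← hzN]; exact h.hyp.zz_mul hN
  have hdi : d⁻¹ = d := inv_eq_of_mul_eq_one_right hdd
  have key : ∀ y ∈ N, y ∉ XX U N → d * y * d⁻¹ = y ∨ d * y * d⁻¹ = y * s := by
    intro y hy hyX
    have h1 : d * y * d⁻¹ ∈ N := (mem_normalizer_iff.1 hdn y).1 hy
    have h2 : d * y * d⁻¹ ∉ XX U N := fun hh => hyX ((mem_normalizer_iff.1 hdX y).2 hh)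
    obtain ⟨g, hg⟩ : ∃ g, g = y⁻¹ * (d * y * d⁻¹) := ⟨_, rfl⟩
    have h3 : g ∈ XX U N := by rw [hg]; exact inv_mul_mem_XX h.vch hN hy h1 hyX h2
    have h4 : d * y * d⁻¹ = y * g := by rw [hg]; group
    have h5 : g * (d * g * d⁻¹) = 1 := by
      have e1 : d * (y * g) * d⁻¹ = y := by
        rw [← h4]
        calc d * (d * y * d⁻¹) * d⁻¹ = (d * d) * y * (d * d)⁻¹ := by group
          _ = y := by rw [hdd]; group
      have e2 : d * (y * g) * d⁻¹ = (d * y * d⁻¹) * (d * g * d⁻¹) := by group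
      rw [e2, h4, mul_assoc] at e1
      exact mul_eq_left.1 e1
    have h6 : d * g * d⁻¹ = g⁻¹ := (inv_eq_of_mul_eq_one_right h5).symm
    have h7 : g * g = 1 := by
      by_contra hgg
      obtain ⟨k, hk⟩ := h.two N hN ⟨g, XX_le N h3⟩
      have hk' : g ^ 2 ^ k = 1 := by
        have := congrArg Subtype.val hk
        simpa using this
      obtain ⟨j, -, hj⟩ := (Nat.dvd_prime_pow Nat.prime_two).1 (orderOf_dvd_of_pow_eq_one hk')
      have hj2 : 2 ≤ j := by
        by_contra hlt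
        have hj1 : j ≤ 1 := by omega
        apply hgg
        rw [← pow_two]
        apply orderOf_dvd_iff_pow_eq_one.1
        rw [hj]
        have h8 : 2 ^ j ∣ 2 ^ 1 := pow_dvd_pow 2 hj1
        rwa [pow_one] at h8
      obtain ⟨i, rfl⟩ : ∃ i, j = i + 2 := ⟨j - 2, by omega⟩
      obtain ⟨u', hu'⟩ : ∃ u', u' = g ^ 2 ^ i := ⟨_, rfl⟩
      have hu'4 : orderOf u' = 4 := by
        rw [hu', orderOf_pow_of_dvd (by positivity) (by rw [hj]; exact pow_dvd_pow 2 (by omega)), hj, pow_add,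
          Nat.mul_div_cancel_left _ (by positivity)]
        norm_num
      have hu'U : u' ∈ U N := by
        apply h.mem_U_of_pow_four hN (by rw [hu']; exact (XX U N).pow_mem h3 _)
        rw [← hu'4]
        exact pow_orderOf_eq_one u'
      have e1 : d * u' * d⁻¹ = u'⁻¹ := by rw [hu', ← conj_pow, h6, inv_pow]
      have e2 : d * u' * d⁻¹ = u' := by
        rcases h.eq_or_inv hN hu hu4 hu'U hu'4 with e3 | e3
        · rw [e3, hdu, mul_inv_cancel_right]
        · have : Commute d u := hdu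
          rw [e3, this.inv_right.eq, mul_inv_cancel_right]
      exact inv_ne_of_four hu'4 (e1.symm.trans e2)
    rw [h4]
    by_cases hg1 : g = 1
    · left; rw [hg1, mul_one]
    · right
      rw [h.hyp.uniq N hN g (XX_le N h3) (orderOf_eq_prime (by rw [pow_two]; exact h7) hg1), hzN]
  obtain ⟨y, hy, hyX⟩ := h.exists_y hN
  refine h.tm_of_gen hN hzN hs (fun x hx => ?_) hy hyX (key y hy hyX)
  have h1 := key _ (N.mul_mem (XX_le N hx) hy) (h.mul_not_mem hx hyX)
  have h2 := key y hy hyX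
  have hcs : ∀ {p : G}, p ∈ N → s * p = p * s := fun {p} hp => by
    rw [← hzN]; exact (h.hyp.comm_zz hN (le_normalizer hp)).symm
  have h3 : d * x * d⁻¹ = (d * (x * y) * d⁻¹) * (d * y * d⁻¹)⁻¹ := by group
  have hsi : s⁻¹ = s := inv_eq_of_mul_eq_one_right hss
  have e1 : x * y * s * y⁻¹ = x * s := by
    rw [mul_assoc x y s, ← hcs hy]; group
  rw [h3]
  rcases h1 with h1 | h1 <;> rcases h2 with h2 | h2 <;> rw [h1, h2]
  · left; group
  · right; rw [mul_inv_rev, hsi, ← mul_assoc]; exact e1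
  · right; exact e1
  · left; rw [mul_inv_rev, hsi, ← mul_assoc, mul_assoc (x * y) s s, hss, mul_one, mul_inv_cancel_right]

end RW

/-! ### `dl s v` commutes with `X_N` -/

/-- `dl s x` acts on `K` as `x` -/
theorem MM.dl_act (h : RW Om U) (m : MM Om z s) (hK : K ∈ Om) (hz : zz K = z) (hx : x ∈ K) (hy : y ∈ K) :
    dl s x * y * (dl s x)⁻¹ = x * y * x⁻¹ := by
  have h1 := m.comm_cj_s h hK hz hy (conj_mem_cj (g := s) hx)
  rw [dl]
  calc x * (s * x * s⁻¹) * y * (x * (s * x * s⁻¹))⁻¹ = x * ((s * x * s⁻¹) * y) * (s * x * s⁻¹)⁻¹ * x⁻¹ := by group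
    _ = x * y * x⁻¹ := by rw [← h1]; group

theorem M2.tm_self (h : RW Om U) (m : M2 Om z s K N) (hv : v ∈ U K) (hv4 : orderOf v = 4) : TM z K (dl s v) := by
  have hvK := h.vch.le K m.hK hv
  refine ⟨(m.z_dl h m.hK m.zK hvK).symm, fun p hp => ?_⟩
  rw [m.dl_act h m.hK m.zK hvK hp]
  by_cases hpX : p ∈ XX U K
  · left
    rw [(h.mem_XX_iff m.hK hv hv4 hp).1 hpX |>.symm, mul_inv_cancel_right]
  · right
    rw [h.v_y m.hK hv hv4 hp hpX, m.zK]

/-- `dl s v` and `dl z u` -/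
theorem TW.eq_of_comm (h : TW Om U) (m : M2 Om z s K N) (hv : v ∈ U K) (hv4 : orderOf v = 4) (hu : u ∈ U N)
    (hu4 : orderOf u = 4) (hX : ∀ x ∈ XX U N, dl s v * x = x * dl s v) : dl s v = dl z u := by
  have hvK := h.vch.le K m.hK hv
  have huN := h.vch.le N m.hN hu
  have m' := m.symm
  have hss := m.ss h.toRW
  obtain ⟨a, ha⟩ : ∃ a, a = dl s v := ⟨_, rfl⟩
  obtain ⟨b, hb⟩ : ∃ b, b = dl z u := ⟨_, rfl⟩
  have hfa : TM s N a := by rw [ha]; exact h.f5 m hv hv4
  have hfb : TM z K b := by rw [hb]; exact h.f5 m' hu hu4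
  have hsa : TM z K a := by rw [ha]; exact m.tm_self h.toRW hv hv4
  have hsb : TM s N b := by rw [hb]; exact m'.tm_self h.toRW hu hu4
  have hay : ∀ y ∈ N, y ∉ XX U N → a * y * a⁻¹ = y * s := by
    intro y hy hyX
    rcases hfa.2 y hy with h1 | h1
    · exfalso
      apply h.f6' m hvK hv4
      intro p hp
      rw [mul_inv_eq_iff_eq_mul, ha] at h1
      exact (h.comm_of m.hN hX hy hyX h1 hp).symm
    · exact h1
  have hby : ∀ y ∈ N, y ∉ XX U N → b * y * b⁻¹ = y * s := by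
    intro y hy hyX
    rw [hb, m'.dl_act h.toRW m.hN m.zN huN hy, h.v_y m.hN hu hu4 hy hyX, m.zN]
  have hbx : ∀ x ∈ XX U N, b * x * b⁻¹ = x := by
    intro x hx
    rw [hb, m'.dl_act h.toRW m.hN m.zN huN (XX_le N hx), ((h.mem_XX_iff m.hN hu hu4 (XX_le N hx)).1 hx).symm,
      mul_inv_cancel_right]
  have hec : ∀ p ∈ N, p * (a * b) = a * b * p := by
    intro p hp
    symm
    rw [← mul_inv_eq_iff_eq_mul]
    have e1 : a * b * p * (a * b)⁻¹ = a * (b * p * b⁻¹) * a⁻¹ := by group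
    rw [e1]
    by_cases hpX : p ∈ XX U N
    · rw [hbx p hpX, ha, hX p hpX, mul_inv_cancel_right]
    · have e2 : a * (p * s) * a⁻¹ = (a * p * a⁻¹) * (a * s * a⁻¹) := by group
      rw [hby p hp hpX, e2, hay p hp hpX, hfa.1, mul_inv_cancel_right, mul_assoc, hss, mul_one]
  have hze : z * (a * b) = a * b * z := by
    rw [← mul_assoc, ← hsa.1, mul_assoc, ← hfb.1, mul_assoc]
  obtain ⟨q, hq, hq4, hqe⟩ := h.exists_comm_four m.hK m.zK (hsa.mul (m.zz' h.toRW) hfb)
  have he1 : a * b = 1 := by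
    by_contra hne
    exact h.f6 m hne hec hze hq hq4 hqe.symm
  rw [← ha, ← hb]
  have hbb : b * b = 1 := by rw [hb]; exact m'.dl_dl h.toRW m.hN m.zN huN hu4
  have : a * b * b = b := by rw [he1, one_mul]
  rwa [mul_assoc, hbb, mul_one] at this

theorem TW.exists_q1 (h : TW Om U) (m : M2 Om z s K N) (hv : v ∈ U K) (hv4 : orderOf v = 4) (hu : u ∈ U N)
    (hu4 : orderOf u = 4) (hX : ∀ x ∈ XX U N, dl s v * x = x * dl s v) :
    ∃ y ∈ K, y ∉ XX U K ∧ dl s y * u * (dl s y)⁻¹ = u⁻¹ := by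
  by_contra hcon
  push Not at hcon
  have hss := m.ss h.toRW
  have hvK := h.vch.le K m.hK hv
  have huN := h.vch.le N m.hN hu
  have hcu : ∀ y ∈ K, y ∉ XX U K → dl s y * u = u * dl s y := by
    intro y hy hyX
    rcases h.conj_or m.hN (mem_normalizer_iff_cj.2 (h.fix m hy)) hu hu4 with h1 | h1
    · exact mul_inv_eq_iff_eq_mul.1 h1
    · exact absurd h1 (hcon y hy hyX)
  have htm : ∀ y ∈ K, y ∉ XX U K → TM s N (dl s y) := by
    intro y hy hyX
    exact h.inv_tm m.hN m.zN (m.s_dl h.toRW m.hK m.zK hy).symm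
      (m.dl_dl h.toRW m.hK m.zK hy (h.y_facts m.hK hy hyX).2.1) (h.fix m hy) hu hu4 (hcu y hy hyX)
  obtain ⟨c, y₀, n, hc, hcU, hc4, hcX, hyX₀, hcov⟩ := h.exists_coord m.hK
  obtain ⟨c', y', n', hc', hcU', hc4', hcX', hyX', hcov'⟩ := h.exists_coord m.hN
  have hnn : n = n' := by
    have h4 := h.eqc K m.hK N m.hN
    rw [hc.card, hc'.card] at h4
    have := Nat.pow_right_injective (le_refl 2) h4
    simp only [Nat.add_right_cancel_iff] at this
    exact this
  subst hnn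
  have hy₀ := hc.v_mem
  rcases Nat.eq_zero_or_pos n with hn | hn
  · subst hn
    rw [pow_zero, pow_one] at hcU' hc4'
    -- `X_N = V_N`
    have hXU : ∀ g : G, g * u = u * g → ∀ x ∈ XX U N, g * x = x * g := by
      intro g hg x hx
      obtain ⟨i, rfl⟩ := hcov' x hx
      have h1 : Commute g c' := by
        rcases h.eq_or_inv m.hN hu hu4 hcU' hc4' with h2 | h2
        · rw [h2]; exact hg
        · rw [h2]; exact (show Commute g u from hg).inv_right
      exact (h1.pow_right i).eq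
    have hmv : ∀ y ∈ K, y ∉ XX U K → dl s y * y' * (dl s y)⁻¹ = y' * s := by
      intro y hy hyX
      rcases (htm y hy hyX).2 y' hc'.v_mem with h1 | h1
      · exfalso
        apply h.f6' m hy (h.y_facts m.hK hy hyX).2.1
        intro p hp
        exact (h.comm_of m.hN (hXU _ (hcu y hy hyX)) hc'.v_mem hyX' (mul_inv_eq_iff_eq_mul.1 h1) hp).symm
      · exact h1
    have h1 := hmv y₀ hy₀ hyX₀
    have h2 := hmv _ (K.mul_mem hvK hy₀) (h.mul_not_mem (h.U_le_XX m.hK hv) hyX₀)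
    rw [m.dl_mul h.toRW m.hK m.zK hvK hy₀] at h2
    have h3 : dl s v * dl s y₀ * y' * (dl s v * dl s y₀)⁻¹ = dl s v * (dl s y₀ * y' * (dl s y₀)⁻¹) * (dl s v)⁻¹ := by
      group
    have hva : dl s v * s * (dl s v)⁻¹ = s := by rw [← m.s_dl h.toRW m.hK m.zK hvK, mul_inv_cancel_right]
    have h4 : dl s v * (y' * s) * (dl s v)⁻¹ = (dl s v * y' * (dl s v)⁻¹) * (dl s v * s * (dl s v)⁻¹) := by group
    rw [h3, h1, h4, hva] at h2
    have h5 := mul_right_cancel h2
    apply h.f6' m hvK hv4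
    intro p hp
    exact (h.comm_of m.hN hX hc'.v_mem hyX' (mul_inv_eq_iff_eq_mul.1 h5) hp).symm
  · obtain ⟨k, rfl⟩ : ∃ k, n = k + 1 := ⟨n - 1, by omega⟩
    have h1 : TM s N (dl s c) := by
      have e1 : c = (c * y₀) * y₀⁻¹ := by group
      have hcy := h.mul_not_mem hcX hyX₀
      have hcyK := K.mul_mem hc.c_mem hy₀
      rw [e1, m.dl_mul h.toRW m.hK m.zK hcyK (K.inv_mem hy₀), dl_inv h.toRW m.toMM m.hK m.zK hy₀]
      exact (htm _ hcyK hcy).mul hss ((htm y₀ hy₀ hyX₀).inv hss)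
    have hcp : ∀ i : ℕ, dl s (c ^ i) = dl s c ^ i := by
      intro i
      induction i with
      | zero => rw [pow_zero, pow_zero, m.dl_one h.toRW]
      | succ i ih => rw [pow_succ, pow_succ, m.dl_mul h.toRW m.hK m.zK (K.pow_mem hc.c_mem i) hc.c_mem, ih]
    apply h.f6' m (K.pow_mem hc.c_mem _) hc4
    intro p hp
    have h2 : Commute (dl s c * dl s c) p := h1.sq hss hp
    have h3 : dl s (c ^ 2 ^ (k + 1)) = (dl s c * dl s c) ^ 2 ^ k := by
      rw [hcp, pow_succ', pow_mul, pow_two]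
    rw [h3]
    exact (h2.symm.pow_right _).eq

theorem conj_of_inv (huu : u * u = s) (h1 : d * u * d⁻¹ = u⁻¹) (hs : d * s = s * d) : u * d * u⁻¹ = d * s := by
  have h2 : d * u = u⁻¹ * d := mul_inv_eq_iff_eq_mul.1 h1
  have h3 : d * u⁻¹ = u * d := by
    calc d * u⁻¹ = u * (u⁻¹ * d) * u⁻¹ := by group
      _ = u * d := by rw [← h2]; group
  calc u * d * u⁻¹ = u * (d * u⁻¹) := by group
    _ = (u * u) * d := by rw [h3]; group
    _ = d * s := by rw [huu, hs]

/-- Case I -/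
theorem TW.case_one (h : TW Om U) (m : M2 Om z s K N) (hv : v ∈ U K) (hv4 : orderOf v = 4)
    (hX : ∀ x ∈ XX U N, dl s v * x = x * dl s v) : False := by
  obtain ⟨u, hu, hu4⟩ := h.exists_v m.hN
  have hvK := h.vch.le K m.hK hv
  have huN := h.vch.le N m.hN hu
  obtain ⟨y, hy, hyX, h1⟩ := h.exists_q1 m hv hv4 hu hu4 hX
  have hvy := h.mul_not_mem (h.U_le_XX m.hK hv) hyX
  refine h.final m huN hu4 hvK hv4 hy (h.y_facts m.hK hy hyX).2.1 ?_ (h.y_inv m.hK hy hyX hv)
    (h.y_facts m.hK (K.mul_mem hvK hy) hvy).2.1 (h.eq_of_comm m hv hv4 hu hu4 hX) ?_ (Or.inl hv)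
  · rw [h.v_y m.hK hv hv4 hy hyX, h.y_zz m.hK hy hyX]
  · exact conj_of_inv (m.symm.qq h.toRW m.hN m.zN huN hu4) h1 (m.s_dl h.toRW m.hK m.zK hy).symm

/-! ### Case II -/

theorem pow_sub_one_dvd {j : ℕ} (hj : Odd j) (k : ℕ) : 2 ^ (k + 3) ∣ j ^ 2 ^ (k + 1) - 1 := by
  induction k with
  | zero => simpa using Nat.eight_dvd_sq_sub_one_of_odd hj
  | succ k ih =>
    have h1 : j ^ 2 ^ (k + 1 + 1) - 1 = (j ^ 2 ^ (k + 1) + 1) * (j ^ 2 ^ (k + 1) - 1) := by
      rw [pow_succ 2 (k + 1), pow_mul, ← Nat.sq_sub_sq, one_pow]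
    have h2 : 2 ∣ j ^ 2 ^ (k + 1) + 1 := by
      have h3 : Odd (j ^ 2 ^ (k + 1)) := hj.pow
      exact even_iff_two_dvd.1 (h3.add_odd odd_one)
    rw [h1, show k + 1 + 3 = 1 + (k + 3) by ring, pow_add, pow_one]
    exact Nat.mul_dvd_mul h2 ih

/-- `dl s v` commutes with `X_N`, or `|K| = 8` -/
theorem TW.comm_or_eight (h : TW Om U) (m : M2 Om z s K N) (hv : v ∈ U K) (hv4 : orderOf v = 4) :
    (∀ x ∈ XX U N, dl s v * x = x * dl s v) ∨ (XX U K = U K ∧ XX U N = U N) := by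
  obtain ⟨c, y₀, n, hc, hcU, hc4, hcX, hyX₀, hcov⟩ := h.exists_coord m.hK
  obtain ⟨c', y', n', hc', hcU', hc4', hcX', hyX', hcov'⟩ := h.exists_coord m.hN
  have hnn : n = n' := by
    have h4 := h.eqc K m.hK N m.hN
    rw [hc.card, hc'.card] at h4
    have := Nat.pow_right_injective (le_refl 2) h4
    simp only [Nat.add_right_cancel_iff] at this
    exact this
  subst hnn
  rcases Nat.eq_zero_or_pos n with hn | hn
  · subst hn
    rw [pow_zero, pow_one] at hcU' hcU
    right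
    constructor
    · refine le_antisymm (fun x hx => ?_) (h.U_le_XX m.hK)
      obtain ⟨i, rfl⟩ := hcov x hx
      exact (U K).pow_mem hcU i
    · refine le_antisymm (fun x hx => ?_) (h.U_le_XX m.hN)
      obtain ⟨i, rfl⟩ := hcov' x hx
      exact (U N).pow_mem hcU' i
  · obtain ⟨k, rfl⟩ : ∃ k, n = k + 1 := ⟨n - 1, by omega⟩
    left
    obtain ⟨d, hd⟩ : ∃ d, d = dl s c := ⟨_, rfl⟩
    have hdn : d ∈ normalizer (N : Set G) := by
      rw [hd]; exact mem_normalizer_iff_cj.2 (h.fix m hc.c_mem)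
    have hdX := le_normalizer_XX h.vch m.hN hdn
    obtain ⟨j, hj⟩ := hcov' _ ((mem_normalizer_iff.1 hdX c').1 hcX')
    have hodd : Odd j := by
      by_contra hje
      rw [Nat.not_odd_iff_even] at hje
      have h1 : orderOf (c' ^ j) = orderOf c' := by
        rw [← hj, ← MulAut.conj_apply]
        exact MulEquiv.orderOf_eq (MulAut.conj d) c'
      obtain ⟨i, rfl⟩ := hje
      have h2 : (c' ^ (i + i)) ^ 2 ^ (k + 1 + 1) = 1 := by
        rw [← pow_mul, ← two_mul, mul_comm 2 i, mul_assoc, ← pow_succ', mul_comm, pow_mul]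
        have h3 := hc'.ord
        rw [show k + 1 + 2 = k + 1 + 1 + 1 by ring] at h3
        rw [← h3, pow_orderOf_eq_one, one_pow]
      have h3 := Nat.le_of_dvd (by positivity) (orderOf_dvd_of_pow_eq_one h2)
      rw [h1, hc'.ord] at h3
      have h4 : 2 ^ (k + 1 + 1) < 2 ^ (k + 1 + 2) := Nat.pow_lt_pow_right (by norm_num) (by omega)
      omega
    have hpow : ∀ i : ℕ, d ^ i * c' * (d ^ i)⁻¹ = c' ^ j ^ i := by
      intro i
      induction i with
      | zero => simp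
      | succ i ih =>
        calc d ^ (i + 1) * c' * (d ^ (i + 1))⁻¹ = d ^ i * (d * c' * d⁻¹) * (d ^ i)⁻¹ := by rw [pow_succ]; group
          _ = (d ^ i * c' * (d ^ i)⁻¹) ^ j := by rw [hj, conj_pow]
          _ = c' ^ j ^ (i + 1) := by rw [ih, ← pow_mul, ← pow_succ]
    have hcp : ∀ i : ℕ, dl s (c ^ i) = dl s c ^ i := by
      intro i
      induction i with
      | zero => rw [pow_zero, pow_zero, m.dl_one h.toRW]
      | succ i ih => rw [pow_succ, pow_succ, m.dl_mul h.toRW m.hK m.zK (K.pow_mem hc.c_mem i) hc.c_mem, ih]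
    have hav : dl s v = d ^ 2 ^ (k + 1) := by
      rw [hd, ← hcp]
      rcases h.eq_or_inv m.hK hv hv4 hcU hc4 with h1 | h1
      · rw [h1]
      · rw [h1, dl_inv h.toRW m.toMM m.hK m.zK (h.vch.le K m.hK hv),
          dl_inv_four h.toRW m.toMM m.hK m.zK (h.vch.le K m.hK hv) hv4]
    have hcc : Commute (dl s v) c' := by
      have h1 := hpow (2 ^ (k + 1))
      rw [← hav] at h1
      have h2 : c' ^ j ^ 2 ^ (k + 1) = c' := by
        obtain ⟨l, hl⟩ := pow_sub_one_dvd hodd k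
        have h3 : 1 ≤ j ^ 2 ^ (k + 1) := Nat.one_le_iff_ne_zero.2 (by
          have : j ≠ 0 := by rintro rfl; exact absurd hodd (by decide)
          positivity)
        have h4 : j ^ 2 ^ (k + 1) = 2 ^ (k + 3) * l + 1 := by omega
        have h5 := hc'.ord
        rw [show k + 1 + 2 = k + 3 by ring] at h5
        rw [h4, pow_succ, pow_mul, ← h5, pow_orderOf_eq_one, one_pow, one_mul]
      rw [h2] at h1
      exact mul_inv_eq_iff_eq_mul.1 h1
    intro x hx
    obtain ⟨i, rfl⟩ := hcov' x hx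
    exact (hcc.pow_right i).eq

/-- if `b` inverts `v` and acts trivially modulo `z` then it commutes with an element outside `X_K` -/
theorem RW.exists_comm_out (h : RW Om U) (hK : K ∈ Om) (hz : zz K = z) (ht : TM z K b) (hv : v ∈ U K) (hv4 : orderOf v = 4)
    (hbv : b * v * b⁻¹ = v⁻¹) : ∃ y ∈ K, y ∉ XX U K ∧ b * y = y * b := by
  obtain ⟨y, hy, hyX⟩ := h.exists_y hK
  have hvK := h.vch.le K hK hv
  rcases ht.2 y hy with h1 | h1
  · exact ⟨y, hy, hyX, mul_inv_eq_iff_eq_mul.1 h1⟩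
  · refine ⟨v * y, K.mul_mem hvK hy, h.mul_not_mem (h.U_le_XX hK hv) hyX, ?_⟩
    rw [← mul_inv_eq_iff_eq_mul]
    have h2 : y * z = z * y := by rw [← hz]; exact h.hyp.comm_zz hK (le_normalizer hy)
    have h3 : v * v = z := by rw [← hz]; exact h.sq_eq hK hv hv4
    calc b * (v * y) * b⁻¹ = (b * v * b⁻¹) * (b * y * b⁻¹) := by group
      _ = v⁻¹ * (v * v * y) := by rw [hbv, h1, h2, h3]
      _ = v * y := by group

/-- **two members over `z` and over `s`: contradiction** -/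
theorem TW.m2_false (h : TW Om U) (m : M2 Om z s K N) : False := by
  obtain ⟨v, hv, hv4⟩ := h.exists_v m.hK
  obtain ⟨u, hu, hu4⟩ := h.exists_v m.hN
  have m' := m.symm
  have hvK := h.vch.le K m.hK hv
  have huN := h.vch.le N m.hN hu
  have hss := m.ss h.toRW
  rcases h.comm_or_eight m hv hv4 with hX | ⟨hXK, hXN⟩
  · exact h.case_one m hv hv4 hX
  obtain ⟨a, ha⟩ : ∃ a, a = dl s v := ⟨_, rfl⟩
  obtain ⟨b, hb⟩ : ∃ b, b = dl z u := ⟨_, rfl⟩
  have hfa : TM s N a := by rw [ha]; exact h.f5 m hv hv4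
  have hfb : TM z K b := by rw [hb]; exact h.f5 m' hu hu4
  have hsb : TM s N b := by rw [hb]; exact m'.tm_self h.toRW hu hu4
  have hau : a * u * a⁻¹ = u⁻¹ := by
    rcases h.conj_or m.hN (mem_normalizer_iff_cj.2 (h.fix m hvK)) hu hu4 with h1 | h1
    · exfalso
      apply h.case_one m hv hv4
      intro x hx
      rw [hXN] at hx
      obtain ⟨i, rfl⟩ := h.exists_pw_U m.hN hu hu4 hx
      exact pw_comm (mul_inv_eq_iff_eq_mul.1 h1) i
    · rw [ha]; exact h1
  have hbv : b * v * b⁻¹ = v⁻¹ := by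
    rcases h.conj_or m.hK (mem_normalizer_iff_cj.2 (h.fix m' huN)) hv hv4 with h1 | h1
    · exfalso
      apply h.case_one m' hu hu4
      intro x hx
      rw [hXK] at hx
      obtain ⟨i, rfl⟩ := h.exists_pw_U m.hK hv hv4 hx
      exact pw_comm (mul_inv_eq_iff_eq_mul.1 h1) i
    · rw [hb]; exact h1
  obtain ⟨q, hq, hqX, hbq⟩ := h.exists_comm_out m.hK m.zK hfb hv hv4 hbv
  have hq4 := (h.y_facts m.hK hq hqX).2.1
  obtain ⟨p, hp, hpX, hap⟩ := h.exists_comm_out m.hN m.zN hfa hu hu4 hau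
  obtain ⟨d, hd⟩ : ∃ d, d = dl s q := ⟨_, rfl⟩
  have hdn : d ∈ normalizer (N : Set G) := by rw [hd]; exact mem_normalizer_iff_cj.2 (h.fix m hq)
  have hds : s * d = d * s := by rw [hd]; exact m.s_dl h.toRW m.hK m.zK hq
  have hdz : z * d = d * z := by rw [hd]; exact m.z_dl h.toRW m.hK m.zK hq
  have hqv : q * v * q⁻¹ = v⁻¹ := h.y_inv m.hK hq hqX hv
  -- `d` commutes with `a`
  have hda : d * a = a * d := by
    have h1 : q * v = v⁻¹ * q := mul_inv_eq_iff_eq_mul.1 hqv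
    rw [hd, ha, ← m.dl_mul h.toRW m.hK m.zK hq hvK, h1, m.dl_mul h.toRW m.hK m.zK (K.inv_mem hvK) hq,
      dl_inv h.toRW m.toMM m.hK m.zK hvK, dl_inv_four h.toRW m.toMM m.hK m.zK hvK hv4]
  have huinv : u⁻¹ = u * s := by
    rw [inv_eq_iff_mul_eq_one, ← mul_assoc, m'.qq h.toRW m.hN m.zN huN hu4, hss]
  -- `d` acts trivially modulo `s` on `N`
  have htd : TM s N d := by
    have hdX := le_normalizer_XX h.vch m.hN hdn
    refine h.tm_of_gen m.hN m.zN hds.symm ?_ hp hpX ?_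
    · intro x hx
      rw [hXN] at hx
      have hu' : d * u * d⁻¹ = u ∨ d * u * d⁻¹ = u⁻¹ := h.conj_or m.hN hdn hu hu4
      rcases hu' with h1 | h1
      · left
        obtain ⟨i, rfl⟩ := h.exists_pw_U m.hN hu hu4 hx
        rw [conj_pw, h1]
      · rcases h.mem_four m.hN hu hu4 hx with rfl | rfl | rfl | rfl
        · left; group
        · right; rw [h1, huinv]
        · left; rw [m.zN, ← hds, mul_inv_cancel_right]
        · right
          have h2 : d * u⁻¹ * d⁻¹ = (d * u * d⁻¹)⁻¹ := by group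
          rw [h2, h1, huinv, mul_assoc, hss, mul_one, ← huinv, inv_inv]
    · have h1 : d * p * d⁻¹ ∈ N := (mem_normalizer_iff.1 hdn p).1 hp
      have h2 : d * p * d⁻¹ ∉ XX U N := fun hh => hpX ((mem_normalizer_iff.1 hdX p).2 hh)
      obtain ⟨x, hx⟩ : ∃ x, x = p⁻¹ * (d * p * d⁻¹) := ⟨_, rfl⟩
      have h3 : x ∈ XX U N := by rw [hx]; exact inv_mul_mem_XX h.vch m.hN hp h1 hpX h2
      have h4 : d * p * d⁻¹ = p * x := by rw [hx]; group
      have h5 : a * x * a⁻¹ = x := by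
        have c1 : Commute a p := hap
        have c2 : Commute a d := hda.symm
        have c3 : Commute a x := by
          rw [hx]
          exact c1.inv_right.mul_right ((c2.mul_right c1).mul_right c2.inv_right)
        rw [c3.eq, mul_inv_cancel_right]
      rw [hXN] at h3
      rw [h4]
      rcases h.mem_four m.hN hu hu4 h3 with rfl | rfl | rfl | rfl
      · left; rw [mul_one]
      · exfalso
        rw [hau] at h5
        exact inv_ne_of_four hu4 h5
      · right; rw [m.zN]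
      · exfalso
        have h6 : a * u⁻¹ * a⁻¹ = (a * u * a⁻¹)⁻¹ := by group
        rw [h6, hau, inv_inv] at h5
        exact inv_ne_of_four hu4 h5.symm
  -- `e = b d` centralises `K`
  have hec : ∀ x ∈ K, x * (b * d) = b * d * x := by
    intro x hx
    symm
    refine h.comm_of m.hK ?_ hq hqX ?_ hx
    · intro x hx
      rw [hXK] at hx
      obtain ⟨i, rfl⟩ := h.exists_pw_U m.hK hv hv4 hx
      apply pw_comm
      rw [← mul_inv_eq_iff_eq_mul]
      calc b * d * v * (b * d)⁻¹ = b * (d * v * d⁻¹) * b⁻¹ := by group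
        _ = b * v⁻¹ * b⁻¹ := by rw [hd, m.dl_act h.toRW m.hK m.zK hq hvK, hqv]
        _ = (b * v * b⁻¹)⁻¹ := by group
        _ = v := by rw [hbv, inv_inv]
    · have c1 : d * q = q * d := by rw [hd]; exact (m.q_dl h.toRW m.hK m.zK hq hq4).symm
      rw [mul_assoc, c1, ← mul_assoc, hbq, mul_assoc]
  have hes : s * (b * d) = b * d * s := by
    rw [← mul_assoc, ← hsb.1, mul_assoc, hds, mul_assoc]
  obtain ⟨r, hr, hr4, hre⟩ := h.exists_comm_four m.hN m.zN (hsb.mul hss htd)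
  have he1 : b * d = 1 := by
    by_contra hne
    exact h.f6 m' hne hec hes hr hr4 hre.symm
  have hdb : dl s q = dl z u := by
    have hdd : d * d = 1 := by rw [hd]; exact m.dl_dl h.toRW m.hK m.zK hq hq4
    rw [← hd, ← hb]
    have : b * d * d = d := by rw [he1, one_mul]
    rw [mul_assoc, hdd, mul_one] at this
    exact this.symm
  refine h.final m huN hu4 hq hq4 hvK hv4 hqv ?_
    (h.y_facts m.hK (K.mul_mem hq hvK) (h.mul_not_mem' (h.U_le_XX m.hK hv) hqX)).2.1 hdb ?_ (Or.inr hv)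
  · rw [h.v_y m.hK hv hv4 hq hqX, h.y_zz m.hK hq hqX]
  · rw [← ha]
    exact conj_of_inv (m'.qq h.toRW m.hN m.zN huN hu4) hau hfa.1

end Cfsg.Agent.Cit.CV1
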