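import Cfsg.Agent.Cit.Nil.CV1.LemT.Tau

/-!
# (6b)(CV), rank one, LEMMA T: T-lines, (W), lemma X, the reduction to M/M pairs

`TW Om U` : the world with R1 for all centralisers of elements `≠ 1`.
`MM Om z s` : M/M pairs: `s` moves every member over `z` and conversely.
`RW.lemX` : `zz M = zz N * w`, `w` commutes with `q ∈ K` of order 4 and not with `K`: `w` centralises all members over
`zz N`, or `(zz N, zz N * w)` is an M/M pair.
`TW.lemT_of` : LEMMA T if there are no M/M pairs.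
-/

set_option autoImplicit false
set_option linter.style.haveILetI false
set_option linter.unusedSectionVars false

namespace Cfsg.Agent.Cit.CV1

open Subgroup Cfsg Cit Tau CV

variable {G : Type*} [Group G] {Om : Set (Subgroup G)} {U : Subgroup G → Subgroup G}
  {H K K' L M N N' P S : Subgroup G} {g q s t u v w y z : G}

/-- the world with R1 for centralisers -/
structure TW (Om : Set (Subgroup G)) (U : Subgroup G → Subgroup G) : Prop extends RW Om U where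
  r1 : ∀ e : G, e ≠ 1 → R1 Om (centralizer {e})

/-- M/M pairs -/
structure MM (Om : Set (Subgroup G)) (z s : G) : Prop where
  comm : z * s = s * z
  exz : ∃ K ∈ Om, zz K = z
  exs : ∃ N ∈ Om, zz N = s
  mz : ∀ K ∈ Om, zz K = z → cj s K ≠ K
  ms : ∀ N ∈ Om, zz N = s → cj z N ≠ N

theorem MM.symm (h : MM Om z s) : MM Om s z := ⟨h.comm.symm, h.exs, h.exz, h.ms, h.mz⟩

variable [Finite G]

namespace RW

variable (h : RW Om U)
include h

theorem tt_all (hK : K ∈ Om) (ht : TT U K s) (hv : v ∈ U K) (hv4 : orderOf v = 4) : s * v ≠ v * s := by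
  obtain ⟨-, u, hu, hu4, hne⟩ := ht
  intro hc
  apply hne
  rcases h.eq_or_inv hK hv hv4 hu hu4 with rfl | rfl
  · exact hc
  · exact (Commute.inv_right (show Commute s v from hc)).eq

theorem tt_of_zz (hK : K ∈ Om) (hK' : K' ∈ Om) (hz : zz K' = zz K) (hN : N ∈ Om) (ht : TT U K (zz N)) :
    TT U K' (zz N) := by
  have h1 := h.tt_symm hK hN ht
  rw [← hz] at h1
  exact h.tt_symm hN hK' h1

/-- a T-partner normalising `K` inverts `V_K` -/
theorem inv_of_norm (hK : K ∈ Om) (ht : TT U K s) (hn : cj s K = K) (hv : v ∈ U K) (hv4 : orderOf v = 4) :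
    s * v * s⁻¹ = v⁻¹ := by
  rcases h.conj_or hK (mem_normalizer_iff_cj.2 hn) hv hv4 with h1 | h1
  · exact absurd (mul_inv_eq_iff_eq_mul.1 h1) (h.tt_all hK ht hv hv4)
  · exact h1

theorem zz_inv' (hK : K ∈ Om) : (zz K)⁻¹ = zz K := h.hyp.zz_inv hK

/-- T-line -/
theorem zz_cj_line (hK : K ∈ Om) (hN : N ∈ Om) (hv : v ∈ U K) (hv4 : orderOf v = 4)
    (hi : zz N * v * (zz N)⁻¹ = v⁻¹) : zz (cj v N) = zz N * zz K := by
  rw [h.hyp.zz_cj hN]
  have h1 : zz N * v⁻¹ * (zz N)⁻¹ = v := by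
    calc zz N * v⁻¹ * (zz N)⁻¹ = (zz N * v * (zz N)⁻¹)⁻¹ := by group
      _ = v := by rw [hi, inv_inv]
  have h2 : v * zz N = zz N * v⁻¹ := (mul_inv_eq_iff_eq_mul.1 h1).symm
  rw [h2, mul_assoc, ← mul_inv_rev, h.sq_eq hK hv hv4, h.zz_inv' hK]

theorem tline (hK : K ∈ Om) (hN : N ∈ Om) (ht : TT U K (zz N)) (hn : cj (zz N) K = K) :
    ∃ L ∈ Om, zz L = zz N * zz K := by
  obtain ⟨v, hv, hv4⟩ := h.exists_v hK
  exact ⟨cj v N, h.hO N hN v, h.zz_cj_line hK hN hv hv4 (h.inv_of_norm hK ht hn hv hv4)⟩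

/-- **(W)** -/
theorem lemW (hK : K ∈ Om) (hL : L ∈ Om) (hq : q ∈ K) (hq4 : orderOf q = 4) (hc : q * zz L = zz L * q) :
    ∀ x ∈ K, x * zz L = zz L * x := by
  have h1 : q ∈ normalizer (L : Set G) := h.norm_h3 hK hL hq hq4.ge hc
  obtain ⟨u, hu, hu4⟩ := h.exists_v hL
  have h2 : q * q = zz K := h.hyp.sq_eq_zz hK hq hq4
  have h3 : zz K * u = u * zz K := by
    rw [← mul_inv_eq_iff_eq_mul, ← h2]
    rcases h.conj_or hL h1 hu hu4 with h3 | h3
    · calc q * q * u * (q * q)⁻¹ = q * (q * u * q⁻¹) * q⁻¹ := by group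
        _ = u := by rw [h3, h3]
    · calc q * q * u * (q * q)⁻¹ = q * (q * u * q⁻¹) * q⁻¹ := by group
        _ = q * u⁻¹ * q⁻¹ := by rw [h3]
        _ = (q * u * q⁻¹)⁻¹ := by group
        _ = u := by rw [h3, inv_inv]
  rcases h.comm_of_zz hL hK hu hu4 h3 with h4 | h4
  · subst h4
    exact fun x hx => h.hyp.comm_zz hL (le_normalizer hx)
  · exact fun x hx => (h4 _ (h.hyp.zz_mem hL) x hx).symm

/-- **lemma X** -/
theorem lemX (hN : N ∈ Om) (hM : M ∈ Om) (hzM : zz M = zz N * w) (hw2 : w * w = 1) (hsw : zz N * w = w * zz N)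
    (hK : K ∈ Om) (hq : q ∈ K) (hq4 : orderOf q = 4) (hqw : q * w = w * q) (hy : y ∈ K) (hyw : y * w ≠ w * y) :
    (∀ N₁ ∈ Om, zz N₁ = zz N → ∀ x ∈ N₁, x * w = w * x) ∨ MM Om (zz N) (zz N * w) := by
  have hss : zz N * zz N = 1 := h.hyp.zz_mul hN
  have hw1 : w ≠ 1 := by
    rintro rfl
    exact hyw (by rw [mul_one, one_mul])
  -- `w` is not a `zz L`
  have hW : ∀ L ∈ Om, zz L ≠ w := by
    intro L hL hz
    rw [← hz] at hqw hyw
    exact hyw (h.lemW hK hL hq hq4 hqw y hy)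
  have hc : zz M * zz N = zz N * zz M := by rw [hzM, mul_assoc, ← hsw]
  by_cases hA : ∃ N₁ ∈ Om, zz N₁ = zz N ∧ ¬ TT U N₁ (zz M)
  · left
    obtain ⟨N₁, hN₁, hz₁, ht₁⟩ := hA
    intro N₂ hN₂ hz₂ x hx
    have ht₂ : ¬ TT U N₂ (zz M) := fun ht => ht₁ (h.tt_of_zz hN₂ hN₁ (hz₁.trans hz₂.symm) hM ht)
    rcases h.comm_of_not_tt hN₂ hM (by rw [hz₂]; exact hc) ht₂ with h1 | h1
    · exfalso
      rw [h1] at hz₂
      rw [hz₂] at hzM
      exact hw1 (left_eq_mul.1 hzM)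
    · have h2 := h1 x hx _ (h.hyp.zz_mem hM)
      have h3 : x * zz N = zz N * x := by rw [← hz₂]; exact h.hyp.comm_zz hN₂ (le_normalizer hx)
      have h4 : w = zz N * zz M := by rw [hzM, ← mul_assoc, hss, one_mul]
      rw [h4, ← mul_assoc, h3, mul_assoc, h2, mul_assoc]
  · right
    push Not at hA
    refine ⟨by rw [← hzM]; exact hc.symm, ⟨N, hN, rfl⟩, ⟨M, hM, hzM⟩, ?_, ?_⟩
    · intro N₁ hN₁ hz₁ hcj
      rw [← hzM] at hcj
      obtain ⟨L, hL, hzL⟩ := h.tline hN₁ hM (hA N₁ hN₁ hz₁) hcj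
      refine hW L hL ?_
      rw [hzL, hz₁, hzM, hsw, mul_assoc, hss, mul_one]
    · intro M₁ hM₁ hz₁ hcj
      have ht : TT U M₁ (zz N) := by
        have h1 : TT U N (zz M₁) := by
          rw [hz₁, ← hzM]
          exact hA N hN rfl
        exact h.tt_symm hN hM₁ h1
      obtain ⟨L, hL, hzL⟩ := h.tline hM₁ hN ht hcj
      refine hW L hL ?_
      rw [hzL, hz₁, ← mul_assoc, hss, one_mul]

/-- **lemma S** -/
theorem exists_conj_mul (hK : K ∈ Om) (hN : N ∈ Om) (ht : TT U K (zz N)) (hn : cj (zz N) K = K) :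
    ∃ g ∈ K, ∃ v ∈ U K, orderOf v = 4 ∧ g⁻¹ * zz N * g = zz N * v := by
  obtain ⟨c, y, n, hc, hcU, hc4, hcX, hyX, hcov⟩ := h.exists_coord hK
  have hinv := h.inv_of_norm hK ht hn hcU hc4
  have hsi := h.zz_inv' hN
  rcases n with - | m
  · rw [pow_zero, pow_one] at hcU hc4 hinv
    obtain ⟨h1, h2⟩ := Cit.Nil.CV.XLevel.inv_y h.toCVW hN hK hcU hc4 hinv hc.v_mem hyX
    obtain ⟨i, hi⟩ := Cit.Nil.CV.XLevel.gen_of_odd h.toCVW hK h1 h2 hcX
    set d := (zz N * y * (zz N)⁻¹)⁻¹ * y with hd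
    obtain ⟨j, hj⟩ := hcov d h1
    refine ⟨y, hc.v_mem, d, ?_, ?_, ?_⟩
    · rw [hj]; exact (U K).pow_mem hcU j
    · apply Nat.dvd_antisymm
      · rw [hj, ← hc4]
        exact orderOf_pow_dvd j
      · rw [← hc4, hi]
        exact orderOf_dvd_of_mem_zpowers ⟨i, rfl⟩
    · rw [hd]
      have : zz N * ((zz N * y * (zz N)⁻¹)⁻¹ * y) = (zz N * zz N) * y⁻¹ * (zz N)⁻¹ * y := by group
      rw [this, h.hyp.zz_mul hN, hsi, one_mul]
  · set x := c ^ 2 ^ m with hx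
    have hxX : x ∈ XX U K := (XX U K).pow_mem hcX _
    have h1 := Cit.Nil.CV.XLevel.inv_xx h.toCVW hN hK hcU hc4 hinv hxX
    refine ⟨x, XX_le K hxX, c ^ 2 ^ (m + 1), hcU, hc4, ?_⟩
    have h2 : zz N * x⁻¹ * (zz N)⁻¹ = x := by
      calc zz N * x⁻¹ * (zz N)⁻¹ = (zz N * x * (zz N)⁻¹)⁻¹ := by group
        _ = x := by rw [h1, inv_inv]
    have h3 : x⁻¹ * zz N = zz N * x := by
      have h4 : zz N * x = x⁻¹ * zz N := mul_inv_eq_iff_eq_mul.1 h1
      exact h4.symm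
    rw [h3, mul_assoc, hx, ← pow_add, ← two_mul, ← pow_succ']

end RW

/-- the second form of (tau) -/
theorem TW.tau' (h : TW Om U) (hw : w ≠ 1) (hN : N ∈ Om) (hN' : N' ∈ Om) (hne : N ≠ N') (hz : zz N = zz N')
    (h1 : ∀ x ∈ N, x * w = w * x) (h2 : ∀ x ∈ N', x * w = w * x) (hK : K ∈ Om) (ht : TT U K (zz N)) (hv : v ∈ U K)
    (hv4 : orderOf v = 4) : v * w ≠ w * v := fun hc =>
  h.tau (h.r1 w hw) hN hN' (le_centralizer_singleton h1) (le_centralizer_singleton h2) hne hz hK ht hv hv4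
    (mem_centralizer_singleton_iff.2 hc)

/-- `y ∈ K` does not commute with `v` -/
theorem RW.exists_ny (h : RW Om U) (hK : K ∈ Om) (hv : v ∈ U K) (hv4 : orderOf v = 4) :
    ∃ y ∈ K, y * v * y⁻¹ = v⁻¹ ∧ y * v ≠ v * y := by
  obtain ⟨y, hy, hyX⟩ := h.exists_y hK
  refine ⟨y, hy, h.y_inv hK hy hyX hv, fun hc => hyX ?_⟩
  exact (h.mem_XX_iff hK hv hv4 hy).2 hc

/-- **LEMMA T** without M/M pairs -/
theorem TW.unique_of (h : TW Om U) (hMM : ∀ z s : G, ¬ MM Om z s) (hK : K ∈ Om) (hN : N ∈ Om) (ht : TT U K (zz N))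
    (hN' : N' ∈ Om) (hz' : zz N' = zz N) : N' = N := by
  by_contra hne
  obtain ⟨s, hs⟩ : ∃ s, s = zz N := ⟨_, rfl⟩
  have hss : s * s = 1 := by rw [hs]; exact h.hyp.zz_mul hN
  have hsi : s⁻¹ = s := inv_eq_of_mul_eq_one_right hss
  -- the final contradiction for the cases (i), (ii)
  have key : ∀ {w : G} {K₁ : Subgroup G} {v g : G}, K₁ ∈ Om → TT U K₁ s → v ∈ U K₁ → orderOf v = 4 →
      g⁻¹ * s * g = s * w → w * w = 1 → s * w = w * s → v * w = w * v → (∃ y ∈ K₁, y * w ≠ w * y) → False := by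
    intro w K₁ v g hK₁ ht₁ hv hv4 hg hw2 hsw hvw ⟨y, hy, hyw⟩
    have hw1 : w ≠ 1 := by
      rintro rfl
      exact hyw (by rw [mul_one, one_mul])
    have hM := h.hO N hN g⁻¹
    have hzM : zz (cj g⁻¹ N) = zz N * w := by rw [h.hyp.zz_cj hN, inv_inv, ← hs, hg]
    rcases h.lemX hN hM hzM hw2 (by rw [← hs]; exact hsw) hK₁ (h.vch.le _ hK₁ hv) hv4 hvw hy hyw with h1 | h1
    · exact h.tau' hw1 hN hN' (Ne.symm hne) hz'.symm (h1 N hN rfl) (h1 N' hN' hz') hK₁ (by rw [← hs]; exact ht₁)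
        hv hv4 hvw
    · exact hMM _ _ h1
  rw [← hs] at ht
  have htt : ∀ K₁ ∈ Om, zz K₁ = zz K → TT U K₁ s := fun K₁ hK₁ hz₁ => by
    rw [hs] at ht ⊢
    exact h.tt_of_zz hK hK₁ hz₁ hN ht
  by_cases hi : ∃ K₁ ∈ Om, zz K₁ = zz K ∧ cj s K₁ ≠ K₁
  · -- (i)
    obtain ⟨K₁, hK₁, hz₁, hmv⟩ := hi
    obtain ⟨v, hv, hv4⟩ := h.exists_v hK₁
    obtain ⟨y, hy, hyv, hyv'⟩ := h.exists_ny hK₁ hv hv4
    have ht₁ := htt K₁ hK₁ hz₁
    have hvK := h.vch.le K₁ hK₁ hv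
    have hK' := h.hO K₁ hK₁ s
    have hzK' : zz (cj s K₁) = zz K₁ := by rw [h.hyp.zz_cj hK₁, ht₁.1, mul_inv_cancel_right]
    have hcom : ∀ x ∈ K₁, ∀ y ∈ cj s K₁, x * y = y * x := fun x hx y hy =>
      h.comm_of_zz_eq hK₁ hK' hzK'.symm (Ne.symm hmv) hx hy
    obtain ⟨v', hv'⟩ : ∃ v', v' = s * v * s⁻¹ := ⟨_, rfl⟩
    have hv'K : v' ∈ cj s K₁ := by rw [hv']; exact conj_mem_cj hvK
    have hvv : v * v = zz K₁ := h.sq_eq hK₁ hv hv4
    have hvv' : v' * v' = zz K₁ := by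
      rw [← hzK', hv', ← h.sq_eq hK' (h.vch.conj_mem hK₁ hv s) (orderOf_conj_four hv4 s)]
    have hc1 : ∀ x ∈ K₁, Commute x v' := fun x hx => hcom x hx _ hv'K
    have hcv : Commute v v' := hc1 v hvK
    refine key (w := v'⁻¹ * v) (g := v) hK₁ ht₁ hv hv4 ?_ ?_ ?_ ?_ ⟨y, hy, ?_⟩
    · rw [hv', hsi]
      calc v⁻¹ * s * v = (s * s) * v⁻¹ * s * v := by rw [hss, one_mul]
        _ = s * ((s * v * s)⁻¹ * v) := by rw [mul_inv_rev, mul_inv_rev, hsi]; group
    · calc v'⁻¹ * v * (v'⁻¹ * v) = v'⁻¹ * (v * v'⁻¹) * v := by group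
        _ = (v' * v')⁻¹ * (v * v) := by rw [hcv.inv_right.eq]; group
        _ = 1 := by rw [hvv', hvv, inv_mul_cancel]
    · have e1 : s * v' * s⁻¹ = v := by
        rw [hv']
        calc s * (s * v * s⁻¹) * s⁻¹ = (s * s) * v * (s * s)⁻¹ := by group
          _ = v := by rw [hss]; group
      have e2 : s * (v'⁻¹ * v) * s⁻¹ = v'⁻¹ * v := by
        calc s * (v'⁻¹ * v) * s⁻¹ = (s * v' * s⁻¹)⁻¹ * (s * v * s⁻¹) := by group
          _ = v⁻¹ * v' := by rw [e1, ← hv']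
          _ = v'⁻¹ * v := by
            have h1 : v'⁻¹ * v * (v'⁻¹ * v) = 1 := by
              calc v'⁻¹ * v * (v'⁻¹ * v) = v'⁻¹ * (v * v'⁻¹) * v := by group
                _ = (v' * v')⁻¹ * (v * v) := by rw [hcv.inv_right.eq]; group
                _ = 1 := by rw [hvv', hvv, inv_mul_cancel]
            have h2 := eq_inv_of_mul_eq_one_right h1
            rw [mul_inv_rev, inv_inv] at h2
            exact h2.symm
      exact mul_inv_eq_iff_eq_mul.1 e2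
    · exact ((hcv.inv_right).mul_right (Commute.refl v)).eq
    · intro hc
      apply hyv'
      have h1 : y * v'⁻¹ = v'⁻¹ * y := (hc1 y hy).inv_right.eq
      have h2 : v'⁻¹ * (y * v) = v'⁻¹ * (v * y) := by
        rw [← mul_assoc, ← h1, mul_assoc, hc, mul_assoc]
      exact mul_left_cancel h2
  push Not at hi
  have hn : ∀ K₁ ∈ Om, zz K₁ = zz K → cj s K₁ = K₁ := hi
  by_cases hii : ∃ K' ∈ Om, zz K' = zz K ∧ K' ≠ K
  · -- (ii)
    obtain ⟨K', hK', hzK', hneK⟩ := hii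
    have ht' := htt K' hK' hzK'
    have hcom : ∀ x ∈ K, ∀ y ∈ K', x * y = y * x := fun x hx y hy =>
      h.comm_of_zz_eq hK hK' hzK'.symm (Ne.symm hneK) hx hy
    obtain ⟨g, hg, v, hv, hv4, hgv⟩ := h.exists_conj_mul hK hN (by rw [← hs]; exact ht) (by rw [← hs]; exact hn K hK rfl)
    obtain ⟨g', hg', v', hv', hv4', hgv'⟩ := h.exists_conj_mul hK' hN (by rw [← hs]; exact ht')
      (by rw [← hs]; exact hn K' hK' hzK')
    obtain ⟨y, hy, hyv, hyv'⟩ := h.exists_ny hK hv hv4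
    rw [← hs] at hgv hgv'
    have hvK := h.vch.le K hK hv
    have hvK' := h.vch.le K' hK' hv'
    have i1 := h.inv_of_norm hK ht (hn K hK rfl) hv hv4
    have i2 := h.inv_of_norm hK' ht' (hn K' hK' hzK') hv' hv4'
    have hcv : Commute v v' := hcom v hvK v' hvK'
    have hvv : v * v = zz K := h.sq_eq hK hv hv4
    have hvv' : v' * v' = zz K := by rw [h.sq_eq hK' hv' hv4', hzK']
    have hw2 : v' * v * (v' * v) = 1 := by
      calc v' * v * (v' * v) = v' * (v * v') * v := by group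
        _ = (v' * v') * (v * v) := by rw [hcv.eq]; group
        _ = 1 := by rw [hvv', hvv, h.hyp.zz_mul hK]
    refine key (w := v' * v) (g := g * g') hK ht hv hv4 ?_ hw2 ?_ ?_ ⟨y, hy, ?_⟩
    · have e1 : g'⁻¹ * v * g' = v := by
        have := hcom v hvK g' hg'
        rw [mul_assoc, this, inv_mul_cancel_left]
      calc (g * g')⁻¹ * s * (g * g') = g'⁻¹ * (g⁻¹ * s * g) * g' := by group
        _ = (g'⁻¹ * s * g') * (g'⁻¹ * v * g') := by rw [hgv]; group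
        _ = s * (v' * v) := by rw [hgv', e1, mul_assoc]
    · rw [← mul_inv_eq_iff_eq_mul]
      have h1 := eq_inv_of_mul_eq_one_right hw2
      calc s * (v' * v) * s⁻¹ = (s * v' * s⁻¹) * (s * v * s⁻¹) := by group
        _ = (v * v')⁻¹ := by rw [i1, i2, mul_inv_rev]
        _ = (v' * v)⁻¹ := by rw [hcv.eq]
        _ = v' * v := h1.symm
    · exact ((hcv).mul_right (Commute.refl v)).eq
    · intro hc
      apply hyv'
      have h1 : y * v' = v' * y := hcom y hy v' hvK'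
      have h2 : v' * (y * v) = v' * (v * y) := by
        rw [← mul_assoc, ← h1, mul_assoc, hc, mul_assoc]
      exact mul_left_cancel h2
  -- (iii) `K` is the only member over `z`
  push Not at hii
  obtain ⟨z, hz⟩ : ∃ z, z = zz K := ⟨_, rfl⟩
  have hzz : z * z = 1 := by rw [hz]; exact h.hyp.zz_mul hK
  have hzi : z⁻¹ = z := inv_eq_of_mul_eq_one_right hzz
  have hsz : s * z = z * s := by rw [hz]; exact ht.1
  have htN : ∀ N₁ ∈ Om, zz N₁ = zz N → TT U N₁ z := fun N₁ hN₁ hz₁ => by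
    rw [hz]
    rw [hs] at ht
    exact h.tt_of_zz hN hN₁ hz₁ hK (h.tt_symm hK hN ht)
  -- the common part
  have key2 : ∀ {w : G} {N₁ : Subgroup G} {u y g : G}, N₁ ∈ Om → zz N₁ = zz N → u ∈ N₁ → orderOf u = 4 → y ∈ N₁ →
      g * s = s * g → g⁻¹ * z * g = z * w → w * w = 1 → z * w = w * z → s * w = w * s → u * w = w * u →
      y * w ≠ w * y → False := by
    intro w N₁ u y g hN₁ hz₁ hu hu4 hy hgs hg hw2 hzw hsw huw hyw
    have hw1 : w ≠ 1 := by
      rintro rfl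
      exact hyw (by rw [mul_one, one_mul])
    have hK₂ := h.hO K hK g⁻¹
    have hzK₂ : zz (cj g⁻¹ K) = zz K * w := by rw [h.hyp.zz_cj hK, inv_inv, ← hz, hg]
    obtain ⟨v, hv, hv4⟩ := h.exists_v hK
    have hsv := h.inv_of_norm hK ht (hn K hK rfl) hv hv4
    rcases h.lemX hK hK₂ hzK₂ hw2 (by rw [← hz]; exact hzw) hN₁ hu hu4 huw hy hyw with h1 | h1
    swap
    · exact hMM _ _ h1
    have hcK : ∀ x ∈ K, x * w = w * x := h1 K hK rfl
    -- `K ⊥ K₂`
    have hKK : ∀ x ∈ K, ∀ y ∈ cj g⁻¹ K, x * y = y * x := by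
      rcases h.comm_of_zz hK hK₂ hv hv4 (by
        have h2 : v * zz K = zz K * v := h.hyp.comm_zz hK (le_normalizer (h.vch.le K hK hv))
        rw [hzK₂, mul_assoc, ← hcK v (h.vch.le K hK hv), ← mul_assoc, ← h2, mul_assoc]) with h2 | h2
      · exfalso
        rw [← h2] at hzK₂
        exact hw1 (left_eq_mul.1 hzK₂)
      · exact h2
    obtain ⟨v₂, hv₂⟩ : ∃ v₂, v₂ = g⁻¹ * v * g := ⟨_, rfl⟩
    have hv₂K : v₂ ∈ U (cj g⁻¹ K) := by
      have := h.vch.conj_mem hK hv g⁻¹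
      rwa [inv_inv, ← hv₂] at this
    have hv₂4 : orderOf v₂ = 4 := by
      have := orderOf_conj_four hv4 g⁻¹
      rwa [inv_inv, ← hv₂] at this
    have hgs' : g⁻¹ * s = s * g⁻¹ := by
      rw [inv_mul_eq_iff_eq_mul, ← mul_assoc, hgs, mul_inv_cancel_right]
    have hsv₂ : s * v₂ * s⁻¹ = v₂⁻¹ := by
      rw [hv₂]
      calc s * (g⁻¹ * v * g) * s⁻¹ = (s * g⁻¹) * v * (g * s⁻¹) := by group
        _ = g⁻¹ * (s * v * s⁻¹) * g := by
          rw [← hgs']
          have : g * s⁻¹ = s⁻¹ * g := by rw [hsi]; exact hgs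
          rw [this]; group
        _ = (g⁻¹ * v * g)⁻¹ := by rw [hsv]; group
    -- `s z`, then `s w`
    have hN₃ := h.hO N₁ hN₁ v
    have hzN₃ : zz (cj v N₁) = s * z := by
      rw [h.zz_cj_line hK hN₁ hv hv4 (by rw [hz₁, ← hs]; exact hsv), hz₁, ← hs, ← hz]
    have hN₄ := h.hO _ hN₃ v₂
    have hvv₂ : Commute v v₂ := hKK v (h.vch.le K hK hv) v₂ (h.vch.le _ hK₂ hv₂K)
    have hzv₂ : z * v₂ = v₂ * z := by
      rw [hz]; exact hKK _ (h.hyp.zz_mem hK) v₂ (h.vch.le _ hK₂ hv₂K)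
    have hzN₄ : zz (cj v₂ (cj v N₁)) = zz N₁ * w := by
      rw [h.zz_cj_line hK₂ hN₃ hv₂K hv₂4, hzN₃, hzK₂, hz₁, ← hs, ← hz]
      · calc s * z * (z * w) = s * (z * z) * w := by group
          _ = s * w := by rw [hzz, mul_one]
      · rw [hzN₃]
        calc s * z * v₂ * (s * z)⁻¹ = s * (z * v₂) * z⁻¹ * s⁻¹ := by group
          _ = s * v₂ * s⁻¹ := by rw [hzv₂]; group
          _ = v₂⁻¹ := hsv₂
    rcases h.lemX hN₁ hN₄ hzN₄ hw2 (by rw [hz₁, ← hs]; exact hsw) hN₁ hu hu4 huw hy hyw with h2 | h2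
    · exact hyw (h2 N₁ hN₁ rfl y hy)
    · exact hMM _ _ h2
  by_cases hmv : ∃ N₁ ∈ Om, zz N₁ = zz N ∧ cj z N₁ ≠ N₁
  · obtain ⟨N₁, hN₁, hz₁, hmv⟩ := hmv
    obtain ⟨u, hu, hu4⟩ := h.exists_v hN₁
    obtain ⟨y, hy, hyu, hyu'⟩ := h.exists_ny hN₁ hu hu4
    have huN := h.vch.le N₁ hN₁ hu
    have hN₁' := h.hO N₁ hN₁ z
    have hzN' : zz (cj z N₁) = zz N₁ := by
      rw [h.hyp.zz_cj hN₁, hz₁, ← hs, ← hsz, mul_inv_cancel_right]
    have hcom : ∀ x ∈ N₁, ∀ y ∈ cj z N₁, x * y = y * x := fun x hx y hy =>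
      h.comm_of_zz_eq hN₁ hN₁' hzN'.symm (Ne.symm hmv) hx hy
    obtain ⟨u', hu'⟩ : ∃ u', u' = z * u * z⁻¹ := ⟨_, rfl⟩
    have hu'N : u' ∈ cj z N₁ := by rw [hu']; exact conj_mem_cj huN
    have huu : u * u = s := by rw [h.sq_eq hN₁ hu hu4, hz₁, hs]
    have huu' : u' * u' = s := by
      rw [hu', h.sq_eq hN₁' (h.vch.conj_mem hN₁ hu z) (orderOf_conj_four hu4 z), hzN', hz₁, hs]
    have hc1 : ∀ x ∈ N₁, Commute x u' := fun x hx => hcom x hx _ hu'N
    have hcu : Commute u u' := hc1 u huN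
    have hw2 : u'⁻¹ * u * (u'⁻¹ * u) = 1 := by
      calc u'⁻¹ * u * (u'⁻¹ * u) = u'⁻¹ * (u * u'⁻¹) * u := by group
        _ = (u' * u')⁻¹ * (u * u) := by rw [hcu.inv_right.eq]; group
        _ = 1 := by rw [huu', huu, inv_mul_cancel]
    refine key2 (w := u'⁻¹ * u) (g := u) hN₁ hz₁ huN hu4 hy ?_ ?_ hw2 ?_ ?_ ?_ ?_
    · rw [← huu, mul_assoc]
    · rw [hu', hzi]
      calc u⁻¹ * z * u = (z * z) * u⁻¹ * z * u := by rw [hzz, one_mul]
        _ = z * ((z * u * z)⁻¹ * u) := by rw [mul_inv_rev, mul_inv_rev, hzi]; group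
    · have e1 : z * u' * z⁻¹ = u := by
        rw [hu']
        calc z * (z * u * z⁻¹) * z⁻¹ = (z * z) * u * (z * z)⁻¹ := by group
          _ = u := by rw [hzz]; group
      rw [← mul_inv_eq_iff_eq_mul]
      calc z * (u'⁻¹ * u) * z⁻¹ = (z * u' * z⁻¹)⁻¹ * (z * u * z⁻¹) := by group
        _ = u⁻¹ * u' := by rw [e1, ← hu']
        _ = u'⁻¹ * u := by
          have h2 := eq_inv_of_mul_eq_one_right hw2
          rw [mul_inv_rev, inv_inv] at h2
          exact h2.symm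
    · have e1 : Commute s u := by rw [← huu]; exact ((Commute.refl u).mul_left (Commute.refl u))
      have e2 : Commute s u' := by rw [← huu']; exact ((Commute.refl u').mul_left (Commute.refl u'))
      exact (e2.inv_right.mul_right e1).eq
    · exact ((hcu.inv_right).mul_right (Commute.refl u)).eq
    · intro hc
      apply hyu'
      have h1 : y * u'⁻¹ = u'⁻¹ * y := (hc1 y hy).inv_right.eq
      have h2 : u'⁻¹ * (y * u) = u'⁻¹ * (u * y) := by
        rw [← mul_assoc, ← h1, mul_assoc, hc, mul_assoc]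
      exact mul_left_cancel h2
  · push Not at hmv
    have hcN := hmv N hN rfl
    have hcN' := hmv N' hN' hz'
    have htN1 := htN N hN rfl
    have htN2 := htN N' hN' hz'
    rw [hz] at htN1 htN2 hcN hcN'
    have hcom : ∀ x ∈ N, ∀ y ∈ N', x * y = y * x := fun x hx y hy =>
      h.comm_of_zz_eq hN hN' hz'.symm (Ne.symm hne) hx hy
    obtain ⟨g, hg, v, hv, hv4, hgv⟩ := h.exists_conj_mul hN hK htN1 hcN
    obtain ⟨g', hg', v', hv', hv4', hgv'⟩ := h.exists_conj_mul hN' hK htN2 hcN'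
    obtain ⟨y, hy, hyv, hyv'⟩ := h.exists_ny hN hv hv4
    rw [← hz] at hgv hgv'
    have hvK := h.vch.le N hN hv
    have hvK' := h.vch.le N' hN' hv'
    have i1 := h.inv_of_norm hN htN1 hcN hv hv4
    have i2 := h.inv_of_norm hN' htN2 hcN' hv' hv4'
    rw [← hz] at i1 i2
    have hcv : Commute v v' := hcom v hvK v' hvK'
    have hvv : v * v = s := by rw [hs]; exact h.sq_eq hN hv hv4
    have hvv' : v' * v' = s := by rw [h.sq_eq hN' hv' hv4', hz', hs]
    have hw2 : v' * v * (v' * v) = 1 := by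
      calc v' * v * (v' * v) = v' * (v * v') * v := by group
        _ = (v' * v') * (v * v) := by rw [hcv.eq]; group
        _ = 1 := by rw [hvv', hvv, hss]
    refine key2 (w := v' * v) (g := g * g') hN rfl hvK hv4 hy ?_ ?_ hw2 ?_ ?_ ?_ ?_
    · have e1 : g * s = s * g := by rw [hs]; exact h.hyp.comm_zz hN (le_normalizer hg)
      have e2 : g' * s = s * g' := by rw [hs, ← hz']; exact h.hyp.comm_zz hN' (le_normalizer hg')
      rw [mul_assoc, e2, ← mul_assoc, e1, mul_assoc]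
    · have e1 : g'⁻¹ * v * g' = v := by
        have := hcom v hvK g' hg'
        rw [mul_assoc, this, inv_mul_cancel_left]
      calc (g * g')⁻¹ * z * (g * g') = g'⁻¹ * (g⁻¹ * z * g) * g' := by group
        _ = (g'⁻¹ * z * g') * (g'⁻¹ * v * g') := by rw [hgv]; group
        _ = z * (v' * v) := by rw [hgv', e1, mul_assoc]
    · rw [← mul_inv_eq_iff_eq_mul]
      have h1 := eq_inv_of_mul_eq_one_right hw2
      calc z * (v' * v) * z⁻¹ = (z * v' * z⁻¹) * (z * v * z⁻¹) := by group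
        _ = (v * v')⁻¹ := by rw [i1, i2, mul_inv_rev]
        _ = (v' * v)⁻¹ := by rw [hcv.eq]
        _ = v' * v := h1.symm
    · have e1 : Commute s v := by rw [← hvv]; exact ((Commute.refl v).mul_left (Commute.refl v))
      have e2 : Commute s v' := by rw [← hvv']; exact ((Commute.refl v').mul_left (Commute.refl v'))
      exact (e2.mul_right e1).eq
    · exact ((hcv).mul_right (Commute.refl v)).eq
    · intro hc
      apply hyv'
      have h1 : y * v' = v' * y := hcom y hy v' hvK'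
      have h2 : v' * (y * v) = v' * (v * y) := by
        rw [← mul_assoc, ← h1, mul_assoc, hc, mul_assoc]
      exact mul_left_cancel h2

/-- **LEMMA T** without M/M pairs -/
theorem TW.lemT_of (h : TW Om U) (hMM : ∀ z s : G, ¬ MM Om z s) : LemT Om U := by
  intro K hK N hN v hv hv4 hc hne
  have ht : TT U K (zz N) := ⟨hc, v, hv, hv4, hne⟩
  exact ⟨fun K' hK' hz => h.unique_of hMM hN hK (h.tt_symm hK hN ht) hK' hz,
    fun N' hN' hz => h.unique_of hMM hK hN ht hN' hz⟩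

end Cfsg.Agent.Cit.CV1
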